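import Cfsg.Agent.Lib.CTRec.DModel

/-!
# Subgroups of the special linear group used for the short presentation of the orthogonal group
-/

set_option autoImplicit false
set_option linter.unusedSectionVars false

namespace CfsgLib.OmShort

open Matrix CfsgLib.CTRec CfsgLib.CTRec.TypeA CfsgLib.CTRec.TypeD

variable {F : Type*} [Field F] {k : ℕ}

/-- The first index. -/
def oI (k : ℕ) : Fin (k + 4) := ⟨0, by omega⟩

/-- The second index. -/
def lI (k : ℕ) : Fin (k + 4) := ⟨1, by omega⟩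

theorem idx_ne' (k : ℕ) : oI k ≠ lI k ∧ oI k ≠ aI k ∧ oI k ≠ bI k ∧ lI k ≠ aI k ∧ lI k ≠ bI k ∧ oI k ≠ cI k := by
  simp [oI, lI, aI, bI, cI, Fin.ext_iff]

/-- Renaming the coordinates. -/
def rein {n : ℕ} (σ : Equiv.Perm (Fin n)) : SpecialLinearGroup (Fin n) F →* SpecialLinearGroup (Fin n) F where
  toFun A := ⟨A.1.submatrix σ σ, by rw [Matrix.det_submatrix_equiv_self]; exact A.2⟩
  map_one' := Subtype.ext (submatrix_one_equiv σ)
  map_mul' A B := Subtype.ext (submatrix_mul_equiv A.1 B.1 σ σ σ).symm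

theorem rein_tv {n : ℕ} (σ : Equiv.Perm (Fin n)) {i j : Fin n} (hij : i ≠ j) (t : F) :
    rein σ (tv i j t) = tv (σ.symm i) (σ.symm j) t := by
  refine Subtype.ext ?_
  show (tv i j t).1.submatrix σ σ = _
  rw [tv_val hij, tv_val (σ.symm.injective.ne hij)]
  ext x y
  obtain ⟨x, rfl⟩ := σ.symm.surjective x
  obtain ⟨y, rfl⟩ := σ.symm.surjective y
  simp [Matrix.one_apply, Matrix.single_apply]

/-- `SL₃` on the coordinates `c`, `a`, `0`. -/
def sub3 : SpecialLinearGroup (Fin 3) F →* SpecialLinearGroup (Fin (k + 4)) F :=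
  (rein (Equiv.swap (bI k) (oI k))).comp emb3

/-- The place of a coordinate. -/
def q3 (k : ℕ) (i : Fin 3) : Fin (k + 4) := ![cI k, aI k, oI k] i

theorem q3_eq (k : ℕ) (i : Fin 3) : Equiv.swap (bI k) (oI k) (p3 k i) = q3 k i := by
  obtain ⟨hca, hcb, hab, -⟩ := idx_ne k
  obtain ⟨-, hoa, -, -, -, hoc⟩ := idx_ne' k
  obtain ⟨h0, h1, h2⟩ := p3_vals k
  fin_cases i <;>
    simp [q3, h0, h1, h2, Equiv.swap_apply_of_ne_of_ne hcb hoc.symm, Equiv.swap_apply_of_ne_of_ne hab hoa.symm]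

theorem sub3_tv {i j : Fin 3} (hij : i ≠ j) (t : F) : sub3 (k := k) (tv i j t) = tv (q3 k i) (q3 k j) t := by
  have hne : p3 k i ≠ p3 k j := fun e => hij (Sum.inr_injective ((e3 k).symm.injective e))
  rw [sub3, MonoidHom.comp_apply, emb3_tv hij, rein_tv _ hne, Equiv.symm_swap, q3_eq, q3_eq]

theorem sub3_vals (t : F) :
    sub3 (k := k) (tv 0 1 t) = tv (cI k) (aI k) t ∧ sub3 (k := k) (tv 1 0 t) = tv (aI k) (cI k) t ∧
      sub3 (k := k) (tv 1 2 t) = tv (aI k) (oI k) t ∧ sub3 (k := k) (tv 2 1 t) = tv (oI k) (aI k) t := by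
  refine ⟨?_, ?_, ?_, ?_⟩ <;> rw [sub3_tv (by decide)] <;> rfl

theorem sub3_blkB (g : SpecialLinearGroup (Fin 2) F) : sub3 (k := k) (blkB g) = em (aI k) (oI k) g := by
  have hne := (idx_ne' k).2.1.symm
  refine DFunLike.congr_fun (ext_gen (f := (sub3 (k := k)).comp blkB) (g := em (aI k) (oI k))
    (fun t => ?_) (fun t => ?_)) g
  · simp only [MonoidHom.comp_apply, (blk_tv t).2.2.1, em_uu hne, (sub3_vals t).2.2.1]
  · simp only [MonoidHom.comp_apply, (blk_tv t).2.2.2, em_ll hne, (sub3_vals t).2.2.2]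

/-- The splitting of the coordinates. -/
def e2 (k : ℕ) : Fin (k + 4) ≃ Fin (k + 2) ⊕ Fin 2 where
  toFun i := if h0 : i.val = 0 then Sum.inr 0 else if hb : i.val = k + 3 then Sum.inr 1
    else Sum.inl ⟨i.val - 1, by omega⟩
  invFun := Sum.elim (fun i => ⟨i.val + 1, by omega⟩) ![oI k, bI k]
  left_inv i := by
    dsimp only
    split_ifs with h0 hb
    · simp [oI, Fin.ext_iff, h0]
    · simp [bI, Fin.ext_iff, hb]
    · simp [Fin.ext_iff]; omega
  right_inv x := by
    rcases x with x | x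
    · have := x.isLt
      simp; omega
    · fin_cases x <;> simp [oI, bI]

theorem e2_symm_inl (i : Fin (k + 2)) : (e2 k).symm (Sum.inl i) = ⟨i.val + 1, by omega⟩ := rfl

theorem e2_symm_inr (i : Fin 2) : (e2 k).symm (Sum.inr i) = ![oI k, bI k] i := rfl

/-- `SL_{k+2} × SL₂` on the coordinates `{1, …, k+2}` and `{0, b}`. -/
def pe : SpecialLinearGroup (Fin (k + 2)) F × SpecialLinearGroup (Fin 2) F →*
    SpecialLinearGroup (Fin (k + 4)) F where
  toFun p := ⟨(fromBlocks p.1.1 0 0 p.2.1).submatrix (e2 k) (e2 k), by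
    rw [Matrix.det_submatrix_equiv_self, Matrix.det_fromBlocks_zero₂₁, p.1.2, p.2.2, mul_one]⟩
  map_one' := by
    refine Subtype.ext ?_
    show (fromBlocks (1 : Matrix (Fin (k + 2)) (Fin (k + 2)) F) 0 0 (1 : Matrix (Fin 2) (Fin 2) F)).submatrix
      (e2 k) (e2 k) = 1
    rw [fromBlocks_one, submatrix_one_equiv]
  map_mul' A B := by
    refine Subtype.ext ?_
    show (fromBlocks (A.1.1 * B.1.1) 0 0 (A.2.1 * B.2.1)).submatrix (e2 k) (e2 k) =
      (fromBlocks A.1.1 0 0 A.2.1).submatrix (e2 k) (e2 k) * (fromBlocks B.1.1 0 0 B.2.1).submatrix (e2 k) (e2 k)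
    rw [submatrix_mul_equiv, fromBlocks_multiply]; simp

theorem pe_tv_inl {i j : Fin (k + 2)} (hij : i ≠ j) (t : F) :
    pe (tv i j t, 1) = tv ((e2 k).symm (Sum.inl i)) ((e2 k).symm (Sum.inl j)) t := by
  have hne : (e2 k).symm (Sum.inl i) ≠ (e2 k).symm (Sum.inl j) :=
    fun e => hij (Sum.inl_injective ((e2 k).symm.injective e))
  refine Subtype.ext ?_
  show (fromBlocks (tv i j t).1 0 0 (1 : Matrix (Fin 2) (Fin 2) F)).submatrix (e2 k) (e2 k) = _
  rw [tv_val hij, tv_val hne]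
  ext x y
  obtain ⟨x, rfl⟩ := (e2 k).symm.surjective x
  obtain ⟨y, rfl⟩ := (e2 k).symm.surjective y
  rcases x with x | x <;> rcases y with y | y <;>
    simp [Matrix.one_apply, Matrix.single_apply]

theorem pe_tv_inr {i j : Fin 2} (hij : i ≠ j) (t : F) :
    pe (k := k) (1, tv i j t) = tv ((e2 k).symm (Sum.inr i)) ((e2 k).symm (Sum.inr j)) t := by
  have hne : (e2 k).symm (Sum.inr i) ≠ (e2 k).symm (Sum.inr j) :=
    fun e => hij (Sum.inr_injective ((e2 k).symm.injective e))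
  refine Subtype.ext ?_
  show (fromBlocks (1 : Matrix (Fin (k + 2)) (Fin (k + 2)) F) 0 0 (tv i j t).1).submatrix (e2 k) (e2 k) = _
  rw [tv_val hij, tv_val hne]
  ext x y
  obtain ⟨x, rfl⟩ := (e2 k).symm.surjective x
  obtain ⟨y, rfl⟩ := (e2 k).symm.surjective y
  rcases x with x | x <;> rcases y with y | y <;>
    simp [Matrix.one_apply, Matrix.single_apply]

/-- Coordinates outside `{0, b}`. -/
theorem exists_inl {i : Fin (k + 4)} (h0 : i ≠ oI k) (hb : i ≠ bI k) :
    ∃ i', (e2 k).symm (Sum.inl i') = i := by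
  refine ⟨⟨i.val - 1, ?_⟩, ?_⟩
  · have := i.isLt
    have h0' : i.val ≠ 0 := fun e => h0 (Fin.ext e)
    have hb' : i.val ≠ k + 3 := fun e => hb (Fin.ext e)
    omega
  · have h0' : i.val ≠ 0 := fun e => h0 (Fin.ext e)
    rw [e2_symm_inl, Fin.ext_iff]
    dsimp only
    omega

/-- Anything commuting with the image of `pe` commutes with these elementary matrices. -/
theorem tv_out {G : Type*} [Group G] {μ : SpecialLinearGroup (Fin (k + 4)) F →* G} {w : G}
    (hw : ∀ p, Commute w (μ (pe p))) {i j : Fin (k + 4)} (hij : i ≠ j) (hi0 : i ≠ oI k) (hib : i ≠ bI k)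
    (hj0 : j ≠ oI k) (hjb : j ≠ bI k) (t : F) : Commute w (μ (tv i j t)) := by
  obtain ⟨i', rfl⟩ := exists_inl hi0 hib
  obtain ⟨j', rfl⟩ := exists_inl hj0 hjb
  rw [← pe_tv_inl (fun e => hij (by rw [e]))]
  exact hw _

theorem tv_in {G : Type*} [Group G] {μ : SpecialLinearGroup (Fin (k + 4)) F →* G} {w : G}
    (hw : ∀ p, Commute w (μ (pe p))) (t : F) :
    Commute w (μ (tv (oI k) (bI k) t)) ∧ Commute w (μ (tv (bI k) (oI k) t)) := by
  constructor
  · have := hw (1, tv 0 1 t)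
    rwa [pe_tv_inr (by decide), e2_symm_inr, e2_symm_inr] at this
  · have := hw (1, tv 1 0 t)
    rwa [pe_tv_inr (by decide), e2_symm_inr, e2_symm_inr] at this

theorem em_dd {n : ℕ} {p q : Fin n} (hpq : p ≠ q) (c : Fˣ) :
    (em p q (dd c)).1 = diagonal (fun x => if x = p then (c : F) else if x = q then (↑c⁻¹ : F) else 1) := by
  rw [em_val hpq]
  ext x y
  simp only [dd, Matrix.add_apply, Matrix.single_apply, Matrix.one_apply, Matrix.diagonal_apply]
  by_cases hxy : x = y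
  · subst hxy
    by_cases h1 : x = p
    · subst h1; simp [hpq, hpq.symm]
    · by_cases h2 : x = q
      · subst h2; simp [hpq, hpq.symm]
      · simp [h1, h2, Ne.symm h1, Ne.symm h2]
  · simp [hxy]
    grind

theorem diag_conj_tv {n : ℕ} (A : SpecialLinearGroup (Fin n) F) {d : Fin n → F} (hA : A.1 = diagonal d)
    {i j : Fin n} (hij : i ≠ j) {t t' : F} (ht : d i * t = t' * d j) : A * tv i j t * A⁻¹ = tv i j t' := by
  rw [mul_inv_eq_iff_eq_mul]
  refine Subtype.ext ?_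
  rw [val_mul', val_mul', tv_val hij, tv_val hij, hA, mul_add, add_mul, mul_one, one_mul]
  congr 1
  ext x y
  rw [Matrix.diagonal_mul, Matrix.mul_diagonal, Matrix.single_apply, Matrix.single_apply]
  split_ifs with h
  · obtain ⟨rfl, rfl⟩ := h; exact ht
  · simp

/-- The Weyl element exchanging `a` and `0`. -/
def Qm (k : ℕ) (F : Type*) [Field F] : Mono (k + 4) F where
  σ := Equiv.swap (aI k) (oI k)
  ε j := if j = aI k then -1 else 1
  M := em (aI k) (oI k) wt
  val i j := by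
    have hne := (idx_ne' k).2.1.symm
    rw [em_val hne]
    simp only [wt, Matrix.add_apply, Matrix.single_apply, Matrix.one_apply, Equiv.swap_apply_def]
    by_cases hi : i = aI k <;> by_cases hi' : i = oI k <;> by_cases hj : j = aI k <;> by_cases hj' : j = oI k <;>
      by_cases hij : i = j <;> simp_all [eq_comm]
  sq j := by split_ifs <;> simp

theorem Qm_vals (k : ℕ) :
    (Qm k F).σ (aI k) = oI k ∧ (Qm k F).σ (oI k) = aI k ∧ (Qm k F).σ (bI k) = bI k ∧
      (Qm k F).σ (lI k) = lI k ∧ (Qm k F).ε (aI k) = -1 ∧ (Qm k F).ε (bI k) = 1 := by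
  obtain ⟨-, hoa, hob, hla, -, -⟩ := idx_ne' k
  have hab := (idx_ne k).2.2.1
  have hol := (idx_ne' k).1
  exact ⟨Equiv.swap_apply_left _ _, Equiv.swap_apply_right _ _, Equiv.swap_apply_of_ne_of_ne hab.symm hob.symm,
    Equiv.swap_apply_of_ne_of_ne hla hol.symm, if_pos rfl, if_neg hab.symm⟩

theorem em_commute {n : ℕ} {p q r s : Fin n} (hpq : p ≠ q) (hrs : r ≠ s) (h1 : p ≠ r) (h2 : p ≠ s)
    (h3 : q ≠ r) (h4 : q ≠ s) (g g' : SpecialLinearGroup (Fin 2) F) : Commute (em p q g) (em r s g') := by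
  refine Subtype.ext ?_
  rw [val_mul', val_mul', em_val hpq, em_val hrs]
  simp [mul_add, add_mul, h1, h2, h3, h4, h1.symm, h2.symm, h3.symm, h4.symm, Matrix.single_mul_single_of_ne]
  abel

theorem uu_pow (n : ℕ) : (uu (1 : F)) ^ n = uu (n : F) := by
  induction n with
  | zero => rw [pow_zero, Nat.cast_zero, uu_zero]
  | succ n ih => rw [pow_succ, ih, Nat.cast_succ, uu_add]

theorem wt_four : (wt : SpecialLinearGroup (Fin 2) F) ^ 4 = 1 := by
  refine Subtype.ext ?_
  simp only [pow_succ, pow_zero, one_mul, val_mul', val_one']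
  ext i j; fin_cases i <;> fin_cases j <;> simp [wt, Matrix.mul_apply, Fin.sum_univ_two]

theorem uu_wt_three (h2 : (2 : F) = 0) : (uu 1 * wt : SpecialLinearGroup (Fin 2) F) ^ 3 = 1 := by
  refine Subtype.ext ?_
  simp only [pow_succ, pow_zero, one_mul, val_mul', val_one']
  ext i j; fin_cases i <;> fin_cases j <;> simp [wt, uu, Matrix.mul_apply, Fin.sum_univ_two] <;>
    linear_combination (h2 : (2 : F) = 0) * (-1)

theorem wt_conj_uu (t : F) : (wt : SpecialLinearGroup (Fin 2) F) * uu t * wt⁻¹ = ll (-t) := by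
  rw [mul_inv_eq_iff_eq_mul]
  refine Subtype.ext ?_
  rw [val_mul', val_mul']
  ext i j; fin_cases i <;> fin_cases j <;> simp [wt, uu, ll, Matrix.mul_apply, Fin.sum_univ_two]

theorem blkB_wt_conj (r : F) : blkB wt * tv 2 1 r * (blkB wt)⁻¹ = tv 1 2 (-r) := by
  rw [mul_inv_eq_iff_eq_mul]
  refine Subtype.ext ?_
  rw [val_mul', val_mul', tv_val (show (2 : Fin 3) ≠ 1 by decide), tv_val (show (1 : Fin 3) ≠ 2 by decide), blkB_val]
  ext i j; fin_cases i <;> fin_cases j <;> simp [wt, Matrix.mul_apply, Fin.sum_univ_three, Matrix.single_apply]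

end CfsgLib.OmShort
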