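import Cfsg.Agent.Lib.CTRec.TypeA
import Cfsg.Agent.Lib.SLPerfect
import Cfsg.Agent.Lib.SpShort.Counts

/-!
# Few generators of `SL_{k+2} × SL₂`
-/

set_option autoImplicit false

namespace CfsgLib.OmShort

open Matrix CfsgLib.CTRec CfsgLib.CTRec.TypeA
open scoped commutatorElement

variable {K : Type} [Field K]

/-- The upper and lower elements on three coordinates. -/
def corner {n : ℕ} (hn : 3 ≤ n) (x : (K × K) × (K × K)) : SpecialLinearGroup (Fin n) K :=
  tv ⟨0, by omega⟩ ⟨1, by omega⟩ x.1.1 * tv ⟨0, by omega⟩ ⟨2, by omega⟩ x.1.2 *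
    (tv ⟨1, by omega⟩ ⟨0, by omega⟩ x.2.1 * tv ⟨2, by omega⟩ ⟨0, by omega⟩ x.2.2)

theorem corner_inj {n : ℕ} (hn : 3 ≤ n) (x x' : (K × K) × (K × K))
    (h : (corner hn x)⁻¹ * corner hn x' ∈ Subgroup.center (SpecialLinearGroup (Fin n) K)) : x = x' := by
  obtain ⟨r, -, hr⟩ := Matrix.SpecialLinearGroup.mem_center_iff.mp h
  set i0 : Fin n := ⟨0, by omega⟩
  set i1 : Fin n := ⟨1, by omega⟩
  set i2 : Fin n := ⟨2, by omega⟩
  have h01 : i0 ≠ i1 := by simp [i0, i1]
  have h02 : i0 ≠ i2 := by simp [i0, i2]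
  have h12 : i1 ≠ i2 := by simp [i1, i2]
  have hval : ∀ x : (K × K) × (K × K), (corner hn x).1 =
      1 + Matrix.single i0 i1 x.1.1 + Matrix.single i0 i2 x.1.2 + Matrix.single i1 i0 x.2.1 +
        Matrix.single i2 i0 x.2.2 + Matrix.single i0 i0 (x.1.1 * x.2.1 + x.1.2 * x.2.2) := by
    intro x
    rw [corner, val_mul', val_mul', val_mul', tv_val h01, tv_val h02, tv_val h01.symm, tv_val h02.symm]
    simp [mul_add, add_mul, Matrix.single_mul_single_of_ne, h01, h02, h12, h01.symm, h02.symm, h12.symm,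
      Matrix.single_add]
    abel
  have e : (corner hn x').1 = (corner hn x).1 * scalar (Fin n) r := by
    rw [hr, ← val_mul', mul_inv_cancel_left]
  rw [Matrix.scalar_apply, hval, hval] at e
  have ent := fun a b => congrFun (congrFun e a) b
  have d1 := ent i1 i1
  have a01 := ent i0 i1
  have a02 := ent i0 i2
  have a10 := ent i1 i0
  have a20 := ent i2 i0
  simp [Matrix.mul_diagonal, Matrix.one_apply, Matrix.single_apply, h01, h02, h12, h01.symm, h02.symm, h12.symm]
    at d1 a01 a02 a10 a20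
  rw [← d1, mul_one] at a01 a02 a10 a20
  exact Prod.ext (Prod.ext a01.symm a02.symm) (Prod.ext a10.symm a20.symm)

theorem card_sl2_lt [Fintype K] :
    Nat.card (SpecialLinearGroup (Fin 2) K) < Nat.card ((K × K) × (K × K)) := by
  classical
  rw [Nat.card_eq_fintype_card, Nat.card_eq_fintype_card]
  refine Fintype.card_lt_of_injective_of_notMem
    (fun A => ((A.1 0 0, A.1 0 1), (A.1 1 0, A.1 1 1))) (fun A B h => ?_) (b := ((0, 0), (0, 0))) ?_
  · simp only [Prod.mk.injEq] at h
    obtain ⟨⟨a, b⟩, c, d⟩ := h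
    refine Subtype.ext ?_
    ext i j; fin_cases i <;> fin_cases j <;> assumption
  · rintro ⟨A, hA⟩
    simp only [Prod.mk.injEq] at hA
    obtain ⟨⟨a, b⟩, c, d⟩ := hA
    have := A.2
    rw [Matrix.det_fin_two, a, b, c, d] at this
    simp at this

theorem normal_small {n : ℕ} (hn : 3 ≤ n) (N : Subgroup (SpecialLinearGroup (Fin n) K)) (hN : N.Normal) :
    N ≤ Subgroup.center (SpecialLinearGroup (Fin n) K) ∨ N = ⊤ := by
  haveI := CfsgLib.SLPerfect.isSimpleGroup (F := K) hn
  have hs : Function.Surjective (QuotientGroup.mk' (Subgroup.center (SpecialLinearGroup (Fin n) K))) :=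
    QuotientGroup.mk'_surjective _
  have hnm := hN.map _ hs
  rcases IsSimpleGroup.eq_bot_or_eq_top_of_normal _ hnm with h | h
  · refine Or.inl ?_
    rw [Subgroup.map_eq_bot_iff, QuotientGroup.ker_mk'] at h
    exact h
  · refine Or.inr (eq_top_iff.mpr ?_)
    rw [← CfsgLib.SLPerfect.commutator_eq_top (F := K) hn, commutator_def, Subgroup.commutator_le]
    intro a _ b _
    have hsup : ∀ g, ∃ x ∈ N, ∃ z ∈ Subgroup.center (SpecialLinearGroup (Fin n) K), g = x * z := by
      intro g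
      obtain ⟨x, hx, e⟩ : QuotientGroup.mk' _ g ∈ N.map (QuotientGroup.mk' _) := h ▸ Subgroup.mem_top _
      obtain ⟨z, hz, rfl⟩ := (QuotientGroup.mk'_eq_mk' _).mp e
      exact ⟨x, hx, z, hz, rfl⟩
    obtain ⟨x, hx, z, hz, rfl⟩ := hsup a
    have e : ⁅x * z, b⁆ = x * (b * x⁻¹ * b⁻¹) := by
      have hzb : z * b = b * z := (Subgroup.mem_center_iff.mp hz b).symm
      rw [commutatorElement_def]
      calc x * z * b * (x * z)⁻¹ * b⁻¹ = x * (z * b) * z⁻¹ * x⁻¹ * b⁻¹ := by group
        _ = _ := by rw [hzb]; group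
    rw [e]
    exact mul_mem hx (hN.conj_mem _ (inv_mem hx) b)

theorem pairs_top [Fintype K] {n : ℕ} (hn : 3 ≤ n) {u u' : SpecialLinearGroup (Fin n) K}
    {v v' : SpecialLinearGroup (Fin 2) K} (hu : Subgroup.closure {u, u'} = ⊤) (hv : Subgroup.closure {v, v'} = ⊤) :
    Subgroup.closure {(u, v), (u', v')} = ⊤ := by
  set H := Subgroup.closure {(u, v), (u', v')}
  have p1 : H.map (MonoidHom.fst _ _) = ⊤ := by rw [MonoidHom.map_closure, Set.image_pair]; exact hu
  have p2 : H.map (MonoidHom.snd _ _) = ⊤ := by rw [MonoidHom.map_closure, Set.image_pair]; exact hv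
  set N := H.comap (MonoidHom.inl (SpecialLinearGroup (Fin n) K) (SpecialLinearGroup (Fin 2) K))
  have hN : N.Normal := ⟨fun a ha g => by
    obtain ⟨⟨g', t⟩, ht, rfl⟩ : g ∈ H.map (MonoidHom.fst _ _) := p1 ▸ Subgroup.mem_top g
    rw [Subgroup.mem_comap, MonoidHom.inl_apply] at ha ⊢
    have := mul_mem (mul_mem ht ha) (inv_mem ht)
    simpa [Prod.mk_mul_mk] using this⟩
  rcases normal_small hn N hN with h | h
  · exfalso
    choose b hb using fun a : SpecialLinearGroup (Fin n) K =>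
      show ∃ b, (a, b) ∈ H by
        obtain ⟨⟨a', t⟩, ht, rfl⟩ : a ∈ H.map (MonoidHom.fst _ _) := p1 ▸ Subgroup.mem_top a
        exact ⟨t, ht⟩
    haveI : Finite (SpecialLinearGroup (Fin 2) K) := Subtype.finite
    have hinj : Function.Injective fun x => b (corner hn x) := fun x x' e => by
      refine corner_inj hn x x' (h ?_)
      rw [Subgroup.mem_comap, MonoidHom.inl_apply]
      have := mul_mem (inv_mem (hb (corner hn x))) (hb (corner hn x'))
      simpa [Prod.mk_mul_mk, show b (corner hn x) = b (corner hn x') from e] using this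
    exact absurd (Nat.card_le_card_of_injective _ hinj) (not_le.mpr card_sl2_lt)
  · refine eq_top_iff.mpr fun x _ => ?_
    obtain ⟨a, t⟩ := x
    obtain ⟨⟨a', t'⟩, ht, rfl⟩ : t ∈ H.map (MonoidHom.snd _ _) := p2 ▸ Subgroup.mem_top t
    have : a * a'⁻¹ ∈ N := h ▸ Subgroup.mem_top _
    rw [Subgroup.mem_comap, MonoidHom.inl_apply] at this
    simpa [Prod.mk_mul_mk] using mul_mem this ht

/-- Two generators, or four in the smallest case. -/
theorem exists_pe_gens (K : Type) [Field K] [Fintype K] (k : ℕ) :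
    ∃ L : List (SpecialLinearGroup (Fin (k + 2)) K × SpecialLinearGroup (Fin 2) K),
      Subgroup.closure {p | p ∈ L} = ⊤ ∧ (k = 0 → L.length ≤ 4) ∧ (1 ≤ k → L.length ≤ 2) := by
  obtain ⟨u, u', hu⟩ := CfsgLib.SpShort.closure_pair_top K (k + 1)
  obtain ⟨v, v', hv⟩ := CfsgLib.SpShort.closure_pair_top K 1
  rcases Nat.eq_zero_or_pos k with hk | hk
  · refine ⟨[(u, 1), (u', 1), (1, v), (1, v')], ?_, fun _ => le_rfl, fun h => by omega⟩
    set H := Subgroup.closure {p | p ∈ [(u, (1 : SpecialLinearGroup (Fin 2) K)), (u', 1), (1, v), (1, v')]}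
    have h1 : (⊤ : Subgroup _) ≤ H.comap (MonoidHom.inl (SpecialLinearGroup (Fin (k + 2)) K) _) := by
      rw [← hu, Subgroup.closure_le]
      rintro _ (rfl | rfl) <;> exact Subgroup.subset_closure (by simp)
    have h2 : (⊤ : Subgroup _) ≤ H.comap (MonoidHom.inr _ (SpecialLinearGroup (Fin 2) K)) := by
      rw [← hv, Subgroup.closure_le]
      rintro _ (rfl | rfl) <;> exact Subgroup.subset_closure (by simp)
    refine eq_top_iff.mpr fun x _ => ?_
    obtain ⟨a, t⟩ := x
    have := mul_mem (Subgroup.mem_comap.mp (h1 (Subgroup.mem_top a))) (Subgroup.mem_comap.mp (h2 (Subgroup.mem_top t)))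
    rwa [MonoidHom.inl_apply, MonoidHom.inr_apply, Prod.mk_mul_mk, mul_one, one_mul] at this
  · refine ⟨[(u, v), (u', v')], ?_, fun h => by omega, fun _ => le_rfl⟩
    have := pairs_top (n := k + 2) (by omega) hu hv
    simpa [Set.insert_def] using this

end CfsgLib.OmShort
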