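import Cfsg.Agent.Lib.OmShort.Rels
import Cfsg.Agent.Lib.OmShort.Gens
import Cfsg.Agent.Lib.OmegaCenter
import Cfsg.Agent.Lib.SmallSimple.O6PlusS8

/-!
# The presentations of the orthogonal groups with their sizes
-/

set_option autoImplicit false

namespace CfsgLib.OmShort

open CfsgLib.ShortPres (Presents)
open CfsgLib.Lagrangian (Qp)
open CfsgLib.WittExtension (quadIso)
open CfsgLib.SpinorMatrix (isoEquiv isoEquiv_apply)

theorem exists_om_presentation (K : Type) [Field K] [Fintype K] (k : ℕ) :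
    ∃ (m : ℕ) (y : Fin m → Cfsg.Omega K ⇑(Qp (k + 4) K)) (rels : Finset (FreeGroup (Fin m))),
      Presents rels y ∧ m ≤ 8 ∧ rels.card + 8 ≤ 31 + m ∧ (k ≤ 1 → rels.card + 8 ≤ 29 + m) := by
  classical
  obtain ⟨m, x, rels, hP, -, h1, h2, h⟩ := CfsgLib.SLShort.exists_sl_presentation K (k + 1)
  obtain ⟨L, hL, hL0, hL1⟩ := exists_pe_gens K k
  let I : Inp K k := { m := m, x := x, rels := rels, hP := hP, L := L, hL := hL }
  obtain ⟨e⟩ := I.exists_isom
  obtain ⟨y, rels', hc, hP'⟩ := CfsgLib.SLShort.presents_of_list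
    (finSumFinEquiv : Fin m ⊕ Fin 1 ≃ Fin (m + 1)) I.relL (fun i => e (PresentedGroup.of i)) ⟨e, fun _ => rfl⟩
  have hlen : rels'.card ≤ rels.card + L.length + 4 := hc.trans I.length_relL.le
  obtain ⟨hm, hr⟩ := h (by omega)
  refine ⟨m + 1, y, rels', hP', by omega, ?_, fun hk => ?_⟩
  · rcases Nat.eq_zero_or_pos k with hk | hk
    · obtain ⟨rfl, hc1⟩ := h1 (by omega)
      have := hL0 hk
      omega
    · have := hL1 hk
      omega
  · rcases Nat.eq_zero_or_pos k with hk0 | hk0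
    · obtain ⟨rfl, hc1⟩ := h1 (by omega)
      have := hL0 hk0
      omega
    · obtain ⟨rfl, hc2⟩ := h2 (by omega)
      have := hL1 hk0
      omega

theorem central_pm {K : Type} [Field K] [Fintype K] {k : ℕ} (z : Cfsg.Omega K ⇑(Qp (k + 4) K))
    (hz : z ∈ Subgroup.center (Cfsg.Omega K ⇑(Qp (k + 4) K))) :
    ∃ s : K, s * s = 1 ∧ ∀ v, z.1.1.1.mulVec v = s • v := by
  obtain ⟨s, hs, hsx⟩ := CfsgLib.OmegaCenter.central_scalar (Q := Qp (k + 4) K) CfsgLib.Lagrangian.Qp_nondeg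
    (by simp; omega) (isoEquiv (Qp (k + 4) K) z.1) (fun g g' => by
      obtain ⟨a, rfl⟩ := (isoEquiv (Qp (k + 4) K)).surjective g
      obtain ⟨b, rfl⟩ := (isoEquiv (Qp (k + 4) K)).surjective g'
      rw [← map_commutatorElement]
      refine Commute.map ?_ (isoEquiv (Qp (k + 4) K))
      exact congrArg Subtype.val (Subgroup.mem_center_iff.mp hz
        ⟨_, Subgroup.commutator_mem_commutator (Subgroup.mem_top a) (Subgroup.mem_top b)⟩).symm)
  refine ⟨s, hs, fun v => ?_⟩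
  rw [← isoEquiv_apply]
  exact hsx v

theorem presents_pomega {K : Type} [Field K] [Fintype K] {k m : ℕ} {y : Fin m → Cfsg.Omega K ⇑(Qp (k + 4) K)}
    {rels : Finset (FreeGroup (Fin m))} (hP : Presents rels y) :
    ∃ (y' : Fin m → Cfsg.POmega K ⇑(Qp (k + 4) K)) (rels' : Finset (FreeGroup (Fin m))),
      rels'.card ≤ rels.card + 1 ∧ Presents rels' y' := by
  classical
  obtain ⟨z, hz⟩ : ∃ z, Subgroup.center (Cfsg.Omega K ⇑(Qp (k + 4) K)) = Subgroup.zpowers z := by
    have key : ∀ g ∈ Subgroup.center (Cfsg.Omega K ⇑(Qp (k + 4) K)), g ≠ 1 →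
        ∀ v, g.1.1.1.mulVec v = (-1 : K) • v := by
      intro g hg hne v
      obtain ⟨s, hs, hgv⟩ := central_pm g hg
      rcases mul_self_eq_one_iff.mp hs with rfl | rfl
      · refine absurd ?_ hne
        refine Subtype.ext (Subtype.ext (Units.ext (Matrix.ext_of_mulVec_single fun i => ?_)))
        rw [hgv, one_smul]
        exact (Matrix.one_mulVec _).symm
      · exact hgv v
    by_cases htriv : ∀ g ∈ Subgroup.center (Cfsg.Omega K ⇑(Qp (k + 4) K)), g = 1
    · refine ⟨1, ?_⟩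
      rw [Subgroup.zpowers_one_eq_bot]
      exact (Subgroup.eq_bot_iff_forall _).mpr htriv
    · push Not at htriv
      obtain ⟨z, hz, hzne⟩ := htriv
      refine ⟨z, le_antisymm (fun g hg => ?_) (Subgroup.zpowers_le.2 hz)⟩
      by_cases hg1 : g = 1
      · rw [hg1]; exact one_mem _
      · rw [show g = z from Subtype.ext (Subtype.ext (Units.ext (Matrix.ext_of_mulVec_single fun i => by
          rw [key g hg hg1, key z hz hzne])))]
        exact Subgroup.mem_zpowers z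
  obtain ⟨rels', hc, hP'⟩ := hP.quot (QuotientGroup.mk' (Subgroup.center _)) (QuotientGroup.mk'_surjective _) z
    (by rw [QuotientGroup.ker_mk', hz])
  exact ⟨_, rels', hc, hP'⟩

/-- Transport of the commutator subgroups. -/
theorem omega_congr {F : Type*} {K : Type} [Field F] [Field K] (r : K ≃+* F) (n : ℕ) :
    Nonempty (Cfsg.Omega K (Cfsg.quadFormPlus n K) ≃* Cfsg.Omega F (Cfsg.quadFormPlus n F)) ∧
    Nonempty (Cfsg.POmega K (Cfsg.quadFormPlus n K) ≃* Cfsg.POmega F (Cfsg.quadFormPlus n F)) := by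
  obtain ⟨E⟩ := CfsgLib.O6PlusS8.isometry_congr r n
  have hmap : (commutator (Cfsg.isometryGroup K (Cfsg.quadFormPlus n K))).map E.toMonoidHom =
      commutator (Cfsg.isometryGroup F (Cfsg.quadFormPlus n F)) := by
    rw [commutator_def, commutator_def, Subgroup.map_commutator, Subgroup.map_top_of_surjective _ E.surjective]
  let e := (E.subgroupMap (Cfsg.Omega K (Cfsg.quadFormPlus n K))).trans (MulEquiv.subgroupCongr hmap)
  exact ⟨⟨e⟩, ⟨QuotientGroup.congr _ _ e (CfsgLib.SLShort.map_center_eq e)⟩⟩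

theorem Qp_coe (n : ℕ) (K : Type*) [Field K] : ⇑(Qp n K) = Cfsg.quadFormPlus n K :=
  funext fun v => CfsgLib.Lagrangian.Qp_apply v

/-- Both groups over any field, on eight generators. -/
theorem padded (F : Type*) [Field F] [Fintype F] (k c b : ℕ)
    (h : ∀ (K : Type) [Field K] [Fintype K], ∃ (m : ℕ) (y : Fin m → Cfsg.Omega K ⇑(Qp (k + 4) K))
      (rels : Finset (FreeGroup (Fin m))), Presents rels y ∧ m ≤ c ∧ rels.card + c ≤ b + m) :
    (∃ rels : Finset (FreeGroup (Fin c)), rels.card ≤ b ∧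
      Nonempty (PresentedGroup (↑rels : Set (FreeGroup (Fin c))) ≃*
        Cfsg.Omega F (Cfsg.quadFormPlus (k + 4) F))) ∧
    (∃ rels : Finset (FreeGroup (Fin c)), rels.card ≤ b + 1 ∧
      Nonempty (PresentedGroup (↑rels : Set (FreeGroup (Fin c))) ≃*
        Cfsg.POmega F (Cfsg.quadFormPlus (k + 4) F))) := by
  classical
  obtain ⟨K, _, _, -, ⟨r⟩⟩ := CfsgLib.SLShort.exists_small_field F
  obtain ⟨⟨e1⟩, ⟨e2⟩⟩ := omega_congr r (k + 4)
  obtain ⟨m, y, rels, hP, hm, hb⟩ := h K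
  haveI : Finite (Cfsg.Omega K ⇑(Qp (k + 4) K)) := inferInstance
  constructor
  · obtain ⟨rels', hc, ⟨e⟩⟩ := CfsgLib.SLShort.pad hm hP
    refine ⟨rels', by omega, ⟨e.trans ?_⟩⟩
    rw [Qp_coe]
    exact e1
  · obtain ⟨y', rels₁, hc₁, hP₁⟩ := presents_pomega hP
    obtain ⟨rels', hc, ⟨e⟩⟩ := CfsgLib.SLShort.pad hm hP₁
    refine ⟨rels', by omega, ⟨e.trans ?_⟩⟩
    rw [Qp_coe]
    exact e2

end CfsgLib.OmShort
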