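import Cfsg.Agent.Lib.OmShort.Base
import Cfsg.Agent.Lib.SpShort.SymHom

/-!
# The branch of the diagram from one further element, and the faithfulness of the matrix image
-/

set_option autoImplicit false
set_option linter.unusedSectionVars false

namespace CfsgLib.OmShort

open Matrix CfsgLib.CTRec CfsgLib.CTRec.TypeA CfsgLib.CTRec.TypeD
open CfsgLib.SpShort (squares_induct)

variable {F : Type*} [Field F] {k : ℕ} {G : Type*} [Group G]

/-- The homomorphism of the branch. -/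
def psi (μ : SpecialLinearGroup (Fin (k + 4)) F →* G) (w : G) : SpecialLinearGroup (Fin 3) F →* G :=
  (MulAut.conj w).toMonoidHom.comp (μ.comp sub3)

theorem psi_apply (μ : SpecialLinearGroup (Fin (k + 4)) F →* G) (w : G) (A : SpecialLinearGroup (Fin 3) F) :
    psi μ w A = w * μ (sub3 A) * w⁻¹ := rfl

/-- The special linear group and one more element, with a few relations. -/
structure WData (k : ℕ) (F : Type*) [Field F] (G : Type*) [Group G] where
  μ : SpecialLinearGroup (Fin (k + 4)) F →* G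
  w : G
  hfix : ∀ p, Commute w (μ (pe p))
  hdef : w = μ (Qm k F).M * (w * μ (Qm k F).M * w⁻¹) * (μ (Qm k F).M)⁻¹
  cab : Commute (psi μ w (tv 1 2 1)) (μ (tv (aI k) (bI k) 1))
  cabw : Commute (psi μ w (tv 1 2 1)) (μ (em (aI k) (bI k) wt))
  c01 : Commute (psi μ w (tv 1 2 1)) (μ (tv (oI k) (lI k) 1))
  c01w : Commute (psi μ w (tv 1 2 1)) (μ (em (oI k) (lI k) wt))

theorem commute_conj {g x y : G} (hg : Commute g y) (h : Commute x y) : Commute (g * x * g⁻¹) y :=
  (hg.mul_left h).mul_left hg.inv_left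

theorem commute_map_conj {g x y : G} (h : Commute x y) : Commute (g * x * g⁻¹) (g * y * g⁻¹) := by
  have := h.map (MulAut.conj g).toMonoidHom
  simpa using this

namespace WData

variable (W : WData k F G)

/-- The root element. -/
def ew (u : F) : G := psi W.μ W.w (tv 1 2 u)

theorem ew_eq (u : F) : W.ew u = W.w * W.μ (tv (aI k) (oI k) u) * W.w⁻¹ := by
  rw [ew, psi_apply, (sub3_vals u).2.2.1]

theorem torus_fix (c : Fˣ) (u : F) :
    Commute (W.μ (em (bI k) (oI k) (dd c) * em (lI k) (aI k) (dd c))) (W.ew u) := by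
  obtain ⟨hol, hoa, hob, hla, hlb, -⟩ := idx_ne' k
  have hab := (idx_ne k).2.2.1
  set τ := em (bI k) (oI k) (dd c) * em (lI k) (aI k) (dd c) with hτ
  have hτd : τ.1 = diagonal (fun x => (if x = bI k then (c : F) else if x = oI k then (↑c⁻¹ : F) else 1) *
      (if x = lI k then (c : F) else if x = aI k then (↑c⁻¹ : F) else 1)) := by
    rw [hτ, val_mul', em_dd hob.symm, em_dd hla, Matrix.diagonal_mul_diagonal]
  have hτw : Commute W.w (W.μ τ) := by
    rw [hτ, map_mul]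
    refine Commute.mul_right ?_ ?_
    · refine mem_of_gens ((Subgroup.centralizer {W.w}).comap (W.μ.comp (em (bI k) (oI k)))) (fun t => ?_)
        (fun t => ?_) (dd c) W.w rfl
      · rw [Subgroup.mem_comap, Subgroup.mem_centralizer_singleton_iff, MonoidHom.comp_apply, em_uu hob.symm]
        exact (tv_in W.hfix t).2.symm.eq
      · rw [Subgroup.mem_comap, Subgroup.mem_centralizer_singleton_iff, MonoidHom.comp_apply, em_ll hob.symm]
        exact (tv_in W.hfix t).1.symm.eq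
    · refine mem_of_gens ((Subgroup.centralizer {W.w}).comap (W.μ.comp (em (lI k) (aI k)))) (fun t => ?_)
        (fun t => ?_) (dd c) W.w rfl
      · rw [Subgroup.mem_comap, Subgroup.mem_centralizer_singleton_iff, MonoidHom.comp_apply, em_uu hla]
        exact (tv_out W.hfix hla hol.symm hlb hoa.symm hab t).symm.eq
      · rw [Subgroup.mem_comap, Subgroup.mem_centralizer_singleton_iff, MonoidHom.comp_apply, em_ll hla]
        exact (tv_out W.hfix hla.symm hoa.symm hab hol.symm hlb t).symm.eq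
  have hτt : Commute (W.μ τ) (W.μ (tv (aI k) (oI k) u)) := by
    refine Commute.map ?_ W.μ
    exact mul_inv_eq_iff_eq_mul.mp (diag_conj_tv τ hτd hoa.symm (t' := u) (by
      simp [hol, hoa, hob, hla.symm, hab, hol.symm, hoa.symm, hob.symm]; ring))
  rw [ew_eq]
  exact (commute_conj hτw hτt.symm).symm

theorem scale_fix (c : Fˣ) :
    Commute W.w (W.μ (em (lI k) (aI k) (dd c))) ∧ ∀ u, W.μ (em (lI k) (aI k) (dd c)) * W.ew u *
      (W.μ (em (lI k) (aI k) (dd c)))⁻¹ = W.ew ((↑c⁻¹ : F) * u) := by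
  obtain ⟨hol, hoa, hob, hla, hlb, -⟩ := idx_ne' k
  have hab := (idx_ne k).2.2.1
  have hw : Commute W.w (W.μ (em (lI k) (aI k) (dd c))) := by
    refine mem_of_gens ((Subgroup.centralizer {W.w}).comap (W.μ.comp (em (lI k) (aI k)))) (fun t => ?_)
      (fun t => ?_) (dd c) W.w rfl
    · rw [Subgroup.mem_comap, Subgroup.mem_centralizer_singleton_iff, MonoidHom.comp_apply, em_uu hla]
      exact (tv_out W.hfix hla hol.symm hlb hoa.symm hab t).symm.eq
    · rw [Subgroup.mem_comap, Subgroup.mem_centralizer_singleton_iff, MonoidHom.comp_apply, em_ll hla]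
      exact (tv_out W.hfix hla.symm hoa.symm hab hol.symm hlb t).symm.eq
  refine ⟨hw, fun u => ?_⟩
  have e1 : em (lI k) (aI k) (dd c) * tv (aI k) (oI k) u * (em (lI k) (aI k) (dd c))⁻¹ =
      tv (aI k) (oI k) ((↑c⁻¹ : F) * u) :=
    diag_conj_tv _ (em_dd hla c) hoa.symm (by simp [hla.symm, hol, hoa])
  rw [ew_eq, ew_eq, ← e1, map_mul, map_mul, map_inv]
  set s := W.μ (em (lI k) (aI k) (dd c))
  set x := W.μ (tv (aI k) (oI k) u)
  calc s * (W.w * x * W.w⁻¹) * s⁻¹ = (s * W.w) * x * (s * W.w)⁻¹ := by group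
    _ = (W.w * s) * x * (W.w * s)⁻¹ := by rw [hw.eq]
    _ = W.w * (s * x * s⁻¹) * W.w⁻¹ := by group

theorem e_comm_all [Finite F] {i j : Fin (k + 4)} (hij : i ≠ j)
    (hp : (i = aI k ∧ j = bI k) ∨ (i = oI k ∧ j = lI k) ∨ (i = bI k ∧ j = aI k) ∨ (i = lI k ∧ j = oI k))
    (h1 : Commute (W.μ (tv i j 1)) (W.ew 1)) (t u : F) : Commute (W.μ (tv i j t)) (W.ew u) := by
  obtain ⟨hol, hoa, hob, hla, hlb, -⟩ := idx_ne' k
  have hab := (idx_ne k).2.2.1
  have hadd : ∀ (u a b : F), Commute (W.μ (tv i j a)) (W.ew u) → Commute (W.μ (tv i j b)) (W.ew u) →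
      Commute (W.μ (tv i j (a + b))) (W.ew u) := fun u a b ha hb => by
    rw [tv_add hij, map_mul]; exact ha.mul_left hb
  have key : ∀ t, Commute (W.μ (tv i j t)) (W.ew 1) := by
    refine squares_induct _ ?_ (hadd 1) (fun a ha => ?_) (fun a ha => ?_)
    · rw [tv_zero hij, map_one]; exact Commute.one_left _
    · rw [tv_neg hij, map_inv]; exact ha.inv_left
    obtain ⟨c, hc⟩ : ∃ c : Fˣ, ∀ d : Fin (k + 4) → F,
        d (bI k) = c → d (oI k) = (↑c⁻¹ : F) → d (lI k) = c → d (aI k) = (↑c⁻¹ : F) → d i * 1 = a * a * d j := by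
      rcases hp with ⟨rfl, rfl⟩ | ⟨rfl, rfl⟩ | ⟨rfl, rfl⟩ | ⟨rfl, rfl⟩
      · exact ⟨(Units.mk0 a ha)⁻¹, fun d h1 h2 h3 h4 => by rw [h1, h4]; simp⟩
      · exact ⟨(Units.mk0 a ha)⁻¹, fun d h1 h2 h3 h4 => by rw [h2, h3]; simp⟩
      · exact ⟨Units.mk0 a ha, fun d h1 h2 h3 h4 => by rw [h1, h4]; simp⟩
      · exact ⟨Units.mk0 a ha, fun d h1 h2 h3 h4 => by rw [h2, h3]; simp⟩
    set τ := em (bI k) (oI k) (dd c) * em (lI k) (aI k) (dd c) with hτ
    have hτd : τ.1 = diagonal (fun x => (if x = bI k then (c : F) else if x = oI k then (↑c⁻¹ : F) else 1) *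
        (if x = lI k then (c : F) else if x = aI k then (↑c⁻¹ : F) else 1)) := by
      rw [hτ, val_mul', em_dd hob.symm, em_dd hla, Matrix.diagonal_mul_diagonal]
    have e := diag_conj_tv τ hτd hij (t := 1) (t' := a * a) (hc (fun x => (if x = bI k then (c : F) else if x = oI k then (↑c⁻¹ : F) else 1) *
        (if x = lI k then (c : F) else if x = aI k then (↑c⁻¹ : F) else 1))
      (by simp [hlb.symm, hab.symm]) (by simp [hob, hol, hoa]) (by simp [hlb, hol.symm, hla])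
      (by simp [hab, hoa.symm, hla.symm]))
    rw [← e, map_mul, map_mul, map_inv]
    exact commute_conj (W.torus_fix c 1) h1
  by_cases hu : u = 0
  · rw [hu, ew, tv_zero (by decide), map_one]; exact Commute.one_right _
  obtain ⟨d, hd0, hd⟩ : ∃ d : Fin (k + 4) → F, (∀ x, d x ≠ 0) ∧
      (em (lI k) (aI k) (dd (Units.mk0 u hu)⁻¹)).1 = diagonal d :=
    ⟨_, fun x => by split_ifs <;> simp [hu], em_dd hla _⟩
  have e := diag_conj_tv _ hd hij (t := t * d j / d i) (t' := t) (by have := hd0 i; field_simp)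
  have := commute_map_conj (g := W.μ (em (lI k) (aI k) (dd (Units.mk0 u hu)⁻¹))) (key (t * d j / d i))
  rw [← map_inv, ← map_mul, ← map_mul, e, map_inv, (W.scale_fix _).2 1] at this
  simpa using this

theorem op_base {i j : Fin (k + 4)} (hij : i ≠ j) {x : G} (h : Commute x (W.μ (tv i j 1)))
    (hw : Commute x (W.μ (em i j wt))) : Commute x (W.μ (tv j i 1)) := by
  have h1 : Commute x (W.μ (tv j i (-1))) := by
    rw [← em_ll hij, ← wt_conj_uu, map_mul, map_mul, map_inv, map_mul, map_mul, map_inv, em_uu hij]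
    exact ((hw.mul_right h).mul_right hw.inv_right)
  rw [tv_neg hij.symm, map_inv] at h1
  simpa using h1.inv_right

theorem e_comm [Finite F] (t u : F) :
    Commute (W.μ (tv (aI k) (bI k) t)) (W.ew u) ∧ Commute (W.μ (tv (bI k) (aI k) t)) (W.ew u) ∧
      Commute (W.μ (tv (oI k) (lI k) t)) (W.ew u) ∧ Commute (W.μ (tv (lI k) (oI k) t)) (W.ew u) := by
  obtain ⟨hol, -, -, -, -, -⟩ := idx_ne' k
  have hab := (idx_ne k).2.2.1
  exact ⟨W.e_comm_all hab (Or.inl ⟨rfl, rfl⟩) W.cab.symm t u,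
    W.e_comm_all hab.symm (Or.inr (Or.inr (Or.inl ⟨rfl, rfl⟩))) (W.op_base hab W.cab W.cabw).symm t u,
    W.e_comm_all hol (Or.inr (Or.inl ⟨rfl, rfl⟩)) W.c01.symm t u,
    W.e_comm_all hol.symm (Or.inr (Or.inr (Or.inr ⟨rfl, rfl⟩))) (W.op_base hol W.c01 W.c01w).symm t u⟩

/-- The Weyl element of the branch node. -/
def nw : G := psi W.μ W.w (blkB wt)

theorem nw_eq : W.nw = W.w * W.μ (Qm k F).M * W.w⁻¹ := by
  rw [nw, psi_apply, sub3_blkB]; rfl

theorem nw_tv {i j : Fin (k + 4)} (hij : i ≠ j)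
    (h : ∀ s, Commute W.w (W.μ (tv ((Qm k F).σ i) ((Qm k F).σ j) s))) (t : F) :
    Commute W.nw (W.μ (tv i j t)) := by
  have e : tv i j t = (Qm k F).M⁻¹ * tv ((Qm k F).σ i) ((Qm k F).σ j) ((Qm k F).ε i * (Qm k F).ε j * t) *
      (Qm k F).M⁻¹⁻¹ := by
    rw [← (Qm k F).conj_tv hij]; group
  have e2 : W.nw = (W.μ (Qm k F).M)⁻¹ * W.w * (W.μ (Qm k F).M)⁻¹⁻¹ := by
    rw [nw_eq]
    conv_rhs => rw [W.hdef]
    group
  rw [e, map_mul, map_mul, map_inv, map_inv, map_inv, e2]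
  exact commute_map_conj (h _)

theorem nw_comm (t : F) :
    Commute W.nw (W.μ (tv (aI k) (bI k) t)) ∧ Commute W.nw (W.μ (tv (bI k) (aI k) t)) ∧
      Commute W.nw (W.μ (tv (oI k) (lI k) t)) ∧ Commute W.nw (W.μ (tv (lI k) (oI k) t)) := by
  obtain ⟨hol, hoa, hob, hla, hlb, -⟩ := idx_ne' k
  have hab := (idx_ne k).2.2.1
  obtain ⟨qa, qo, qb, ql, -, -⟩ := Qm_vals (F := F) k
  refine ⟨W.nw_tv hab (fun s => ?_) t, W.nw_tv hab.symm (fun s => ?_) t, W.nw_tv hol (fun s => ?_) t,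
    W.nw_tv hol.symm (fun s => ?_) t⟩
  · rw [qa, qb]; exact (tv_in W.hfix s).1
  · rw [qa, qb]; exact (tv_in W.hfix s).2
  · rw [qo, ql]; exact tv_out W.hfix hla.symm hoa.symm hab hol.symm hlb s
  · rw [qo, ql]; exact tv_out W.hfix hla hol.symm hlb hoa.symm hab s

/-- The data of type `D`. -/
def data [Finite F] : DData k F G where
  μ := W.μ
  ψ := psi W.μ W.w
  h01 t := by
    obtain ⟨hca, hcb, hab, -⟩ := idx_ne k
    obtain ⟨-, hoa, -, -, -, hoc⟩ := idx_ne' k
    rw [psi_apply, (sub3_vals t).1, (tv_out W.hfix hca hoc.symm hcb hoa.symm hab t).eq, mul_inv_cancel_right]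
  h10 t := by
    obtain ⟨hca, hcb, hab, -⟩ := idx_ne k
    obtain ⟨-, hoa, -, -, -, hoc⟩ := idx_ne' k
    rw [psi_apply, (sub3_vals t).2.1, (tv_out W.hfix hca.symm hoa.symm hab hoc.symm hcb t).eq, mul_inv_cancel_right]
  far i j hadj hb t u := by
    have hne : i ≠ j := fun e => by have := congrArg Fin.val e; omega
    have fromE : (∀ u, Commute (W.μ (tv i j t)) (W.ew u)) → Commute W.nw (W.μ (tv i j t)) →
        Commute (W.μ (tv i j t)) (psi W.μ W.w (tv 1 2 u)) ∧ Commute (W.μ (tv i j t)) (psi W.μ W.w (tv 2 1 u)) := by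
      intro he hn
      refine ⟨he u, ?_⟩
      have e : psi W.μ W.w (tv 2 1 u) = W.nw⁻¹ * W.ew (-u) * W.nw⁻¹⁻¹ := by
        rw [ew, ← blkB_wt_conj u, map_mul, map_mul, map_inv, nw]; group
      rw [e]
      exact (commute_conj hn.inv_left (he (-u)).symm).symm
    by_cases hout : i ≠ oI k ∧ j ≠ oI k ∧ i.val ≤ k + 1 ∧ j.val ≤ k + 1
    · obtain ⟨hi0, hj0, hi, hj⟩ := hout
      have hne' : ∀ x : Fin (k + 4), x.val ≤ k + 1 → x ≠ aI k ∧ x ≠ bI k := fun x hx => by
        constructor <;> intro e <;> rw [e] at hx <;> simp [aI, bI] at hx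
      obtain ⟨hia, hib⟩ := hne' i hi
      obtain ⟨hja, hjb⟩ := hne' j hj
      have hoa := (idx_ne' k).2.1
      have hw := tv_out W.hfix hne hi0 hib hj0 hjb t
      constructor
      · rw [psi_apply, (sub3_vals u).2.2.1]
        exact (commute_conj hw ((tv_commute hne hoa.symm hja hi0 t u).map W.μ).symm).symm
      · rw [psi_apply, (sub3_vals u).2.2.2]
        exact (commute_conj hw ((tv_commute hne hoa hj0 hia t u).map W.μ).symm).symm
    have hcase : (i = oI k ∧ j = lI k) ∨ (i = lI k ∧ j = oI k) ∨ (i = aI k ∧ j = bI k) ∨ (i = bI k ∧ j = aI k) := by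
      simp only [oI, lI, aI, bI, ne_eq, Fin.ext_iff] at hout ⊢
      omega
    rcases hcase with ⟨rfl, rfl⟩ | ⟨rfl, rfl⟩ | ⟨rfl, rfl⟩ | ⟨rfl, rfl⟩
    · exact fromE (fun u => (W.e_comm t u).2.2.1) (W.nw_comm t).2.2.1
    · exact fromE (fun u => (W.e_comm t u).2.2.2) (W.nw_comm t).2.2.2
    · exact fromE (fun u => (W.e_comm t u).1) (W.nw_comm t).1
    · exact fromE (fun u => (W.e_comm t u).2.1) (W.nw_comm t).2.1

end WData

end CfsgLib.OmShort
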