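import Cfsg.Agent.Lib.OmShort.Data
import Cfsg.Agent.Lib.CTRec.TypeDMain

/-!
# The matrix image is faithful
-/

set_option autoImplicit false
set_option linter.unusedSectionVars false

namespace CfsgLib.OmShort

open Matrix CfsgLib.CTRec CfsgLib.CTRec.TypeA CfsgLib.CTRec.TypeD

variable {F : Type*} [Field F] {k : ℕ} {G : Type*} [Group G]

theorem dd_mul (c d : Fˣ) : (dd c : SpecialLinearGroup (Fin 2) F) * dd d = dd (c * d) := by
  refine Subtype.ext ?_
  rw [val_mul']
  ext i j; fin_cases i <;> fin_cases j <;> simp [dd, Matrix.mul_apply, Fin.sum_univ_two] <;> ring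

theorem dd_one : (dd (1 : Fˣ) : SpecialLinearGroup (Fin 2) F) = 1 := by
  refine Subtype.ext ?_
  ext i j; fin_cases i <;> fin_cases j <;> simp [dd]

theorem mu_hh_of_M (D : DData k F G) {m : G} (hm : m ∈ D.M) : ∃ A c, m = D.μ A * D.hh c := by
  have hone : D.hh 1 = 1 := by rw [DData.hh, dd_one, map_one, map_one]
  have hmul : ∀ c d, D.hh c * D.hh d = D.hh (c * d) := fun c d => by
    rw [DData.hh, DData.hh, DData.hh, ← map_mul, ← map_mul, dd_mul]
  induction hm using Subgroup.closure_induction with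
  | mem a ha =>
    rcases ha with ⟨A, rfl⟩ | ⟨c, rfl⟩
    · exact ⟨A, 1, by rw [hone, mul_one]⟩
    · exact ⟨1, c, by rw [map_one, one_mul]⟩
  | one => exact ⟨1, 1, by rw [hone, map_one, mul_one]⟩
  | mul _ _ _ _ a b =>
    obtain ⟨A, c, rfl⟩ := a
    obtain ⟨B, d, rfl⟩ := b
    refine ⟨A * DData.conjD c B, c * d, ?_⟩
    rw [map_mul, ← D.hh_mu c B, ← hmul]; group
  | inv _ _ a =>
    obtain ⟨A, c, rfl⟩ := a
    refine ⟨DData.conjD c⁻¹ A⁻¹, c⁻¹, ?_⟩
    rw [← D.hh_mu c⁻¹ A⁻¹, map_inv, ← D.hh_inv c]; group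

theorem theta_em_dd {p q : Fin (k + 4)} (hpq : p ≠ q) (c : Fˣ) :
    (thetaN _ (em p q (dd c))).1 = (em p q (dd c⁻¹)).1 := by
  show ((em p q (dd c))⁻¹).1ᵀ = _
  rw [← map_inv, DData.dd_inv, em_dd hpq, Matrix.diagonal_transpose]

theorem emb3_blkB (g : SpecialLinearGroup (Fin 2) F) : emb3 (k := k) (blkB g) = em (aI k) (bI k) g := by
  have hab := (idx_ne k).2.2.1
  obtain ⟨-, h1, h2⟩ := p3_vals k
  refine DFunLike.congr_fun (ext_gen (f := (emb3 (k := k)).comp blkB) (g := em (aI k) (bI k))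
    (fun t => ?_) (fun t => ?_)) g
  · simp only [MonoidHom.comp_apply, (blk_tv t).2.2.1, em_uu hab, emb3_tv (show (1 : Fin 3) ≠ 2 by decide), h1, h2]
  · simp only [MonoidHom.comp_apply, (blk_tv t).2.2.2, em_ll hab, emb3_tv (show (2 : Fin 3) ≠ 1 by decide), h1, h2]

theorem branch_dd (c : Fˣ) : branchHom (k := k) (blkB (dd c)) =
    fromBlocks (diagonal (DData.dg c)) 0 0 (diagonal (DData.dg c⁻¹)) := by
  have hab := (idx_ne k).2.2.1
  show (fromBlocks _ 0 0 _).submatrix (sw k) (sw k) = _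
  rw [emb3_blkB, theta_em_dd hab, em_dd hab, em_dd hab, Matrix.fromBlocks_diagonal,
    Matrix.fromBlocks_diagonal, Matrix.submatrix_diagonal_equiv]
  congr 1
  funext x
  have hva : ∀ i : Fin (k + 4), k + 2 ≤ i.val ↔ i = aI k ∨ i = bI k := fun i => by
    simp [aI, bI, Fin.ext_iff]; omega
  rcases x with i | i <;> by_cases hb : i = bI k <;> by_cases ha : i = aI k <;>
    simp_all [sw, DData.dg, Equiv.swap_apply_def, hva]

theorem injective_of [Finite F] (W : WData k F G)
    (hgen : Subgroup.closure (Set.range W.μ ∪ {W.w}) = ⊤) (Φ : G →* GL (Ix k) F)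
    (hμ : ∀ A, Φ (W.μ A) = (model k F).μ A) (hψ : ∀ A, Φ (psi W.μ W.w A) = (model k F).ψ A)
    (hz : psi W.μ W.w (blkB (dd (-1))) * W.μ (em (aI k) (bI k) (dd (-1))) = 1) : Function.Injective Φ := by
  set D := W.data with hD
  set H := (pairD D).gen.comap ((MonoidHom.id G).prod Φ) with hH
  have hmem : ∀ g, (g, Φ g) ∈ (pairD D).gen → g ∈ H := fun g hg => hg
  have hHμ : ∀ A, W.μ A ∈ H := fun A => hmem _ (by
    rw [hμ]; exact Subgroup.subset_closure (Or.inl ⟨A, rfl⟩))
  have hHψ : ∀ A, A ∈ Set.range (tv (F := F) (1 : Fin 3) 2) ∪ Set.range (tv (F := F) (2 : Fin 3) 1) →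
      psi W.μ W.w A ∈ H := by
    rintro A (⟨t, rfl⟩ | ⟨t, rfl⟩) <;> refine hmem _ ?_ <;> rw [hψ]
    · exact Subgroup.subset_closure (Or.inr (Or.inl ⟨t, rfl⟩))
    · exact Subgroup.subset_closure (Or.inr (Or.inr ⟨t, rfl⟩))
  have hHn : psi W.μ W.w (blkB wt) ∈ H := by
    rw [wt_eq]; simp only [map_mul, (blk_tv _).2.2.1, (blk_tv _).2.2.2]
    exact mul_mem (mul_mem (hHψ _ (Or.inl ⟨1, rfl⟩)) (hHψ _ (Or.inr ⟨-1, rfl⟩))) (hHψ _ (Or.inl ⟨1, rfl⟩))
  have hHtop : H = ⊤ := by
    rw [eq_top_iff, ← hgen, Subgroup.closure_le]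
    rintro _ (⟨A, rfl⟩ | rfl)
    · exact hHμ A
    · rw [SetLike.mem_coe, W.hdef]
      refine mul_mem (mul_mem (hHμ _) ?_) (inv_mem (hHμ _))
      rw [← W.nw_eq]; exact hHn
  rw [injective_iff_map_eq_one]
  intro g hg
  have hx : (g, (1 : GL (Ix k) F)) ∈ (pairD D).gen := by
    have : g ∈ H := hHtop ▸ Subgroup.mem_top g
    rw [hH, Subgroup.mem_comap] at this
    simpa [hg] using this
  obtain ⟨u, hu, v, hv, m, hm, u', hu', hx'⟩ := (pairD D).good_gen hx
  have hUy := fun i j (h : i ≠ j) t => (mat_y D (i := i) (j := j) h t).1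
  have hVy : ∀ i j : Fin (k + 4), i ≠ j → ∀ t, mat G k F ((pairD D).flip.y i j t) = LB (sk i j t) :=
    fun i j h t => (mat_y D h t).2
  have hU0 : UB (0 : Matrix (Fin (k + 4)) (Fin (k + 4)) F) = 1 := fromBlocks_one
  have hL0 : LB (0 : Matrix (Fin (k + 4)) (Fin (k + 4)) F) = 1 := fromBlocks_one
  obtain ⟨S, hS⟩ := U_shape (mat G k F) _ UB hU0 UB_add hUy (mul_mem hu' hu)
  obtain ⟨T, hT⟩ := U_shape (mat G k F) _ LB hL0 LB_add hVy hv
  obtain ⟨A, B, hm', -⟩ := mat_M D hm
  have hk : mat G k F ((u' * u) * v * m) = 1 := by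
    have e : u' * u * v * m = u' * (u * v * m * u') * u'⁻¹ := by group
    rw [e, ← hx', map_mul, map_mul, show mat G k F ((g, 1) : G × GL (Ix k) F) = 1 from rfl, mul_one, ← map_mul,
      mul_inv_cancel, map_one]
  rw [map_mul, map_mul, hS, hT, hm', UB, LB, fromBlocks_multiply, fromBlocks_multiply, ← fromBlocks_one] at hk
  simp only [one_mul, mul_one, mul_zero, zero_mul, add_zero, zero_add] at hk
  obtain ⟨e11, e12, e21, e22⟩ := Matrix.fromBlocks_inj.mp hk
  have hB1 : B = 1 := e22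
  have hS0 : S = 0 := by rwa [hB1, mul_one] at e12
  have hA1 : A = 1 := by rwa [hS0, zero_mul, add_zero, one_mul] at e11
  have hT0 : T = 0 := by rwa [hA1, mul_one] at e21
  have hv1 : v = 1 := U_inj (mat G k F) _ LB hL0 LB_add (fun _ _ => LB_inj) hVy hv (by rw [hT, hT0, hL0])
  have hu1 : u' * u = 1 :=
    U_inj (mat G k F) _ UB hU0 UB_add (fun _ _ => UB_inj) hUy (mul_mem hu' hu) (by rw [hS, hS0, hU0])
  rw [hv1, mul_one, eq_inv_of_mul_eq_one_right hu1] at hx'
  obtain ⟨A', c, hm1⟩ := mu_hh_of_M _ hm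
  have hmat : fromBlocks (A'.1 * diagonal (DData.dg c)) 0 0 ((thetaN _ A').1 * diagonal (DData.dg c⁻¹)) =
      (1 : Matrix (Ix k) (Ix k) F) := by
    have : mat G k F m = 1 := by rw [hm', hA1, hB1, fromBlocks_one]
    rw [hm1, map_mul, mat_mu] at this
    rw [← this]
    show _ = fromBlocks A'.1 0 0 (thetaN _ A').1 * branchHom (blkB (dd c))
    rw [branch_dd, fromBlocks_multiply]; simp
  rw [← fromBlocks_one] at hmat
  have hAd := (Matrix.fromBlocks_inj.mp hmat).1
  have hc2 : (c : F) * c = 1 := by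
    have := congrArg Matrix.det hAd
    rw [Matrix.det_mul, A'.2, one_mul, Matrix.det_one, Matrix.det_diagonal,
      ← Finset.prod_subset (Finset.subset_univ {aI k, bI k}) (fun x _ hx => ?_),
      Finset.prod_pair (idx_ne k).2.2.1, (DData.dg_a c).1, (DData.dg_a c).2] at this
    · exact this
    · simp only [Finset.mem_insert, Finset.mem_singleton, not_or] at hx
      rw [DData.dg, if_neg]
      intro hle
      have := x.isLt
      have h1 : x.val ≠ k + 2 := fun e => hx.1 (Fin.ext e)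
      have h2 : x.val ≠ k + 3 := fun e => hx.2 (Fin.ext e)
      omega
  have hAeq : A'.1 = diagonal (DData.dg c) := by
    have hdd : diagonal (DData.dg c) * diagonal (DData.dg c) = (1 : Matrix (Fin (k + 4)) (Fin (k + 4)) F) := by
      rw [Matrix.diagonal_mul_diagonal, ← Matrix.diagonal_one]
      congr 1
      funext x
      rw [DData.dg]; split_ifs <;> simp [hc2]
    calc A'.1 = A'.1 * (diagonal (DData.dg c) * diagonal (DData.dg c)) := by rw [hdd, mul_one]
      _ = _ := by rw [← mul_assoc, hAd, one_mul]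
  have hgm : g = m.1 := by
    have h2 : (g, (1 : GL (Ix k) F)) = u'⁻¹ * m * u' := hx'
    have h3 : Φ g = 1 := hg
    have hconj : u'⁻¹ * m * u' = m := by
      have hcm : ∀ x, x ∈ (pairD D).gen → Commute ((g, 1) : G × GL (Ix k) F) x :=
        pair_central D hx rfl
      have hU' : (pairD D).U ≤ (pairD D).gen := by
        rw [DData.U, Subgroup.closure_le]
        rintro _ ⟨i, j, t, -, rfl⟩
        exact (gen_y D i j t).1
      have := hcm u' (hU' hu')
      rw [h2] at this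
      have e : u'⁻¹ * m * u' = u' * (u'⁻¹ * m * u') * u'⁻¹ := by rw [← this.eq, mul_inv_cancel_right]
      conv_lhs => rw [e]
      group
    rw [hconj] at h2
    exact congrArg Prod.fst h2
  rw [hgm, hm1, Prod.fst_mul]
  rcases mul_self_eq_one_iff.mp hc2 with hc | hc
  · obtain rfl : c = 1 := Units.ext hc
    have hA' : A' = 1 := Subtype.ext (by
      rw [hAeq, val_one', ← Matrix.diagonal_one]; congr 1; funext x; simp [DData.dg])
    rw [hA', map_one, DData.hh, dd_one, map_one, map_one, Prod.fst_one, mul_one]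
  · obtain rfl : c = -1 := Units.ext (by simpa using hc)
    have hA' : A' = em (aI k) (bI k) (dd (-1)) := Subtype.ext (by
      rw [hAeq, em_dd (idx_ne k).2.2.1]; congr 1
      funext x
      have hva : k + 2 ≤ x.val ↔ x = aI k ∨ x = bI k := by simp [aI, bI, Fin.ext_iff]; omega
      by_cases h1 : x = aI k <;> by_cases h2 : x = bI k <;> simp_all [DData.dg])
    rw [hA']
    exact mul_eq_one_comm.mp hz

end CfsgLib.OmShort
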