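import Cfsg.Agent.Lib.OmShort.Faithful
import Cfsg.Agent.Lib.SLPerfect

/-!
# The matrix model, and its image
-/

set_option autoImplicit false
set_option linter.unusedSectionVars false
set_option maxHeartbeats 400000

namespace CfsgLib.OmShort

open Matrix CfsgLib.CTRec CfsgLib.CTRec.TypeA CfsgLib.CTRec.TypeD
open QuadraticMap (polar)
open CfsgLib.Lagrangian (Qp)

variable {F : Type*} [Field F] {k : ℕ}

theorem mono_single (P : Mono (k + 4) F) (i j : Fin (k + 4)) (t : F) :
    P.M.1 * Matrix.single i j t = Matrix.single (P.σ i) (P.σ j) (P.ε i * P.ε j * t) * P.M.1 := by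
  ext x y
  by_cases hy : y = j
  · subst hy
    rw [Matrix.mul_single_apply_same, P.val]
    by_cases hx : x = P.σ i
    · subst hx
      rw [if_pos rfl, Matrix.single_mul_apply_same, P.val, if_pos rfl]
      linear_combination (-(P.ε i * t)) * P.sq y
    · rw [if_neg hx, zero_mul, Matrix.single_mul_apply_of_ne _ _ _ _ _ hx]
  · rw [Matrix.mul_single_apply_of_ne _ _ _ _ _ hy]
    by_cases hx : x = P.σ i
    · subst hx
      rw [Matrix.single_mul_apply_same, P.val, if_neg (P.σ.injective.ne (Ne.symm hy)), mul_zero]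
    · rw [Matrix.single_mul_apply_of_ne _ _ _ _ _ hx]

/-- The complement of a pair on the diagonal. -/
def pc (i j : Fin (k + 4)) : Matrix (Fin (k + 4)) (Fin (k + 4)) F := 1 - Matrix.single i i 1 - Matrix.single j j 1

/-- The exchange of `e` and `f` on a pair of coordinates, with signs. -/
def wm (i j : Fin (k + 4)) : Matrix (Ix k) (Ix k) F := fromBlocks (pc i j) (sk i j 1) (sk i j 1) (pc i j)

/-- The same, with the signs exchanged. -/
def wm' (i j : Fin (k + 4)) : Matrix (Ix k) (Ix k) F := fromBlocks (pc i j) (sk j i 1) (sk j i 1) (pc i j)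

theorem sk_sq {i j : Fin (k + 4)} (hij : i ≠ j) :
    sk i j (1 : F) * sk i j 1 = -(Matrix.single i i 1 + Matrix.single j j 1) := by
  simp [sk, mul_sub, sub_mul, Matrix.single_mul_single_of_ne, hij, hij.symm]; abel

theorem sk_symm (i j : Fin (k + 4)) : sk j i (1 : F) = -sk i j 1 := by simp [sk]

theorem pc_sk {i j : Fin (k + 4)} (hij : i ≠ j) :
    pc i j * sk i j (1 : F) = 0 ∧ sk i j (1 : F) * pc i j = 0 := by
  constructor <;> simp [pc, sk, mul_sub, sub_mul, Matrix.single_mul_single_of_ne, hij, hij.symm]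

theorem pc_sq {i j : Fin (k + 4)} (hij : i ≠ j) : pc i j * pc i j = (pc i j : Matrix _ _ F) := by
  simp [pc, mul_sub, sub_mul, Matrix.single_mul_single_of_ne, hij, hij.symm]

theorem wm_mul {i j : Fin (k + 4)} (hij : i ≠ j) : wm i j * wm' i j = (1 : Matrix (Ix k) (Ix k) F) ∧
    wm' i j * wm i j = (1 : Matrix (Ix k) (Ix k) F) := by
  obtain ⟨h1, h2⟩ := pc_sk (F := F) hij
  have e : pc i j + (Matrix.single i i 1 + Matrix.single j j 1) = (1 : Matrix _ _ F) := by simp [pc]
  constructor <;> simp [wm, wm', fromBlocks_multiply, sk_symm i j, pc_sq hij, sk_sq hij, h1, h2] <;>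
    rw [show Matrix.single i i 1 + Matrix.single j j 1 + pc i j = (1 : Matrix _ _ F) by rw [add_comm _ (pc i j : Matrix (Fin (k + 4)) (Fin (k + 4)) F)]; exact e, e,
      fromBlocks_one]

/-- The extra element. -/
def wU (k : ℕ) (F : Type*) [Field F] : GL (Ix k) F :=
  ⟨wm (bI k) (oI k), wm' (bI k) (oI k), (wm_mul (idx_ne' k).2.2.1.symm).1, (wm_mul (idx_ne' k).2.2.1.symm).2⟩

theorem wm_levi_commute {i j : Fin (k + 4)} (hij : i ≠ j) {A : SpecialLinearGroup (Fin (k + 4)) F}
    (h1 : pc i j * A.1 = A.1 * pc i j) (h1' : pc i j * (thetaN _ A).1 = (thetaN _ A).1 * pc i j)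
    (h2 : sk i j 1 * (thetaN _ A).1 = A.1 * sk i j 1) (h2' : sk i j 1 * A.1 = (thetaN _ A).1 * sk i j 1) :
    wm i j * leviHom A = leviHom A * wm i j := by
  show wm i j * fromBlocks _ 0 0 _ = fromBlocks _ 0 0 _ * wm i j
  simp [wm, fromBlocks_multiply, h1, h1', h2, h2']

theorem wU_comm_tv {i j : Fin (k + 4)} (hij : i ≠ j)
    (h : (i ≠ oI k ∧ i ≠ bI k ∧ j ≠ oI k ∧ j ≠ bI k) ∨ (i = oI k ∧ j = bI k) ∨ (i = bI k ∧ j = oI k)) (t : F) :
    Commute (wU k F) ((model k F).μ (tv i j t)) := by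
  have hob := (idx_ne' k).2.2.1
  refine Units.ext ?_
  show wm (bI k) (oI k) * leviHom (tv i j t) = leviHom (tv i j t) * wm (bI k) (oI k)
  refine wm_levi_commute hob.symm ?_ ?_ ?_ ?_ <;> simp only [thetaN_tv hij, tv_val hij, tv_val hij.symm] <;>
    rcases h with ⟨a, b, c, d⟩ | ⟨rfl, rfl⟩ | ⟨rfl, rfl⟩ <;>
    first
    | (simp [pc, sk, mul_add, add_mul, mul_sub, sub_mul, Matrix.single_mul_single_of_ne, a, b, c, d, Ne.symm a,
        Ne.symm b, Ne.symm c, Ne.symm d, single_neg']; done)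
    | (simp [pc, sk, mul_add, add_mul, mul_sub, sub_mul, Matrix.single_mul_single_of_ne, a, b, c, d, Ne.symm a,
        Ne.symm b, Ne.symm c, Ne.symm d, single_neg']; abel)
    | (simp [pc, sk, mul_add, add_mul, mul_sub, sub_mul, Matrix.single_mul_single_of_ne, hob, hob.symm,
        single_neg']; done)
    | (simp [pc, sk, mul_add, add_mul, mul_sub, sub_mul, Matrix.single_mul_single_of_ne, hob, hob.symm,
        single_neg']; abel)

theorem wU_fix (p : SpecialLinearGroup (Fin (k + 2)) F × SpecialLinearGroup (Fin 2) F) :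
    Commute (wU k F) ((model k F).μ (pe p)) := by
  set H := (Subgroup.centralizer {wU k F}).comap ((model k F).μ.comp pe) with hH
  have hmem : ∀ p, p ∈ H ↔ Commute (wU k F) ((model k F).μ (pe p)) := fun p => by
    rw [hH, Subgroup.mem_comap, Subgroup.mem_centralizer_singleton_iff]
    exact ⟨fun e => e.symm, fun e => e.symm⟩
  clear_value H
  obtain ⟨A, B⟩ := p
  rw [← hmem, show (A, B) = (A, 1) * (1, B) by simp]
  refine mul_mem ?_ ?_
  · refine Subgroup.mem_comap.mp (tv_gen (m := k + 2) (by omega) (H.comap (MonoidHom.inl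
      (SpecialLinearGroup (Fin (k + 2)) F) (SpecialLinearGroup (Fin 2) F))) (fun i j t hij => ?_) A)
    rw [Subgroup.mem_comap, MonoidHom.inl_apply, hmem, pe_tv_inl hij]
    have hout : ∀ i : Fin (k + 2), (e2 k).symm (Sum.inl i) ≠ oI k ∧ (e2 k).symm (Sum.inl i) ≠ bI k := fun i => by
      have := i.isLt
      constructor <;> intro e <;> have := congrArg Fin.val e <;>
        simp only [e2_symm_inl, oI, bI] at this <;> omega
    exact wU_comm_tv (fun e => hij (Sum.inl_injective ((e2 k).symm.injective e)))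
      (Or.inl ⟨(hout i).1, (hout i).2, (hout j).1, (hout j).2⟩) t
  · refine Subgroup.mem_comap.mp (tv_gen (m := 2) le_rfl (H.comap (MonoidHom.inr
      (SpecialLinearGroup (Fin (k + 2)) F) (SpecialLinearGroup (Fin 2) F))) (fun i j t hij => ?_) B)
    rw [Subgroup.mem_comap, MonoidHom.inr_apply, hmem, pe_tv_inr hij]
    have hob := (idx_ne' k).2.2.1
    refine wU_comm_tv (fun e => hij (Sum.inr_injective ((e2 k).symm.injective e))) ?_ t
    fin_cases i <;> fin_cases j <;> simp [e2_symm_inr] at hij ⊢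

theorem wU_psi (A : SpecialLinearGroup (Fin 3) F) :
    psi (model k F).μ (wU k F) A = (model k F).ψ A := by
  obtain ⟨hca, hcb, hab, -⟩ := idx_ne k
  obtain ⟨-, hoa, hob, -, -, hoc⟩ := idx_ne' k
  set H := MonoidHom.eqLocus (psi (model k F).μ (wU k F)) (model k F).ψ with hH
  have h12 : ∀ t : F, tv (1 : Fin 3) 2 t ∈ H ∧ tv (2 : Fin 3) 1 t ∈ H := by
    intro t
    constructor <;> show psi _ _ _ = _ <;>
      rw [psi_apply, mul_inv_eq_iff_eq_mul] <;> refine Units.ext ?_
    · rw [(sub3_vals t).2.2.1]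
      show wm (bI k) (oI k) * leviHom _ = branchHom _ * wm (bI k) (oI k)
      rw [levi_tv hoa.symm, (branch_tv12 t).1]
      simp [wm, UB, pc, sk, fromBlocks_multiply, mul_add, add_mul, mul_sub, sub_mul, Matrix.single_mul_single_of_ne,
        hab, hab.symm, hob, hob.symm, hoa, hoa.symm, single_neg']
      try (constructor <;> abel)
    · rw [(sub3_vals t).2.2.2]
      show wm (bI k) (oI k) * leviHom _ = branchHom _ * wm (bI k) (oI k)
      rw [levi_tv hoa, (branch_tv12 t).2]
      simp [wm, LB, pc, sk, fromBlocks_multiply, mul_add, add_mul, mul_sub, sub_mul, Matrix.single_mul_single_of_ne,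
        hab, hab.symm, hob, hob.symm, hoa, hoa.symm, single_neg']
      try (constructor <;> abel)
  have h01 : ∀ t : F, tv (0 : Fin 3) 1 t ∈ H ∧ tv (1 : Fin 3) 0 t ∈ H := by
    intro t
    constructor <;> show psi _ _ _ = _
    · rw [psi_apply, (sub3_vals t).1, (tv_out wU_fix hca hoc.symm hcb hoa.symm hab t).eq, mul_inv_cancel_right,
        (model k F).h01]
    · rw [psi_apply, (sub3_vals t).2.1, (tv_out wU_fix hca.symm hoa.symm hab hoc.symm hcb t).eq,
        mul_inv_cancel_right, (model k F).h10]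
  refine tv_gen (m := 3) (by omega) H (fun i j t hij => ?_) A
  fin_cases i <;> fin_cases j <;> simp at hij
  · exact (h01 t).1
  · show tv 0 2 t ∈ H
    rw [← mul_one t, ← tv_comm (i := (0 : Fin 3)) (j := 1) (k := 2) (by decide) (by decide) (by decide) t 1,
      commutatorElement_def]
    exact mul_mem (mul_mem (mul_mem (h01 t).1 (h12 1).1) (inv_mem (h01 t).1)) (inv_mem (h12 1).1)
  · exact (h01 t).2
  · exact (h12 t).1
  · show tv 2 0 t ∈ H
    rw [← mul_one t, ← tv_comm (i := (2 : Fin 3)) (j := 1) (k := 0) (by decide) (by decide) (by decide) t 1,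
      commutatorElement_def]
    exact mul_mem (mul_mem (mul_mem (h12 t).2 (h01 1).2) (inv_mem (h12 t).2)) (inv_mem (h01 1).2)
  · exact (h12 t).2

theorem branch_wt : branchHom (k := k) (blkB (wt : SpecialLinearGroup (Fin 2) F)) = wm (aI k) (bI k) := by
  have hab := (idx_ne k).2.2.1
  rw [wt_eq, map_mul, map_mul, map_mul, map_mul, (blk_tv _).2.2.1, (blk_tv _).2.2.2, (branch_tv12 1).1,
    (branch_tv12 (-1)).2]
  have e : sk (bI k) (aI k) (-1 : F) = sk (aI k) (bI k) 1 := by simp [sk, single_neg']; abel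
  rw [e, UB, LB, fromBlocks_multiply, fromBlocks_multiply]
  obtain ⟨h1, h2⟩ := pc_sk (F := F) hab
  have e2 : 1 + sk (aI k) (bI k) 1 * sk (aI k) (bI k) 1 = (pc (aI k) (bI k) : Matrix _ _ F) := by
    rw [sk_sq hab, pc]; abel
  simp [wm, e2, h1, add_comm _ (1 : Matrix (Fin (k + 4)) (Fin (k + 4)) F)]

theorem wU_def : wU k F = (model k F).μ (Qm k F).M *
    (wU k F * (model k F).μ (Qm k F).M * (wU k F)⁻¹) * ((model k F).μ (Qm k F).M)⁻¹ := by
  obtain ⟨qa, -, qb, -, ea, eb⟩ := Qm_vals (F := F) k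
  rw [show wU k F * (model k F).μ (Qm k F).M * (wU k F)⁻¹ = (model k F).ψ (blkB wt) by
    rw [← wU_psi, psi_apply, sub3_blkB]; rfl]
  rw [eq_mul_inv_iff_mul_eq]
  refine Units.ext ?_
  show wm (bI k) (oI k) * fromBlocks _ 0 0 _ = fromBlocks _ 0 0 _ * branchHom _
  rw [branch_wt, Mono.theta, wm, wm, fromBlocks_multiply, fromBlocks_multiply]
  have hp : (Qm k F).M.1 * pc (aI k) (bI k) = pc (bI k) (oI k) * (Qm k F).M.1 := by
    simp only [pc, mul_sub, sub_mul, mul_one, one_mul, mono_single, qa, qb, ea, eb]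
    simp; abel
  have hs : (Qm k F).M.1 * sk (aI k) (bI k) 1 = sk (bI k) (oI k) 1 * (Qm k F).M.1 := by
    simp only [sk, mul_sub, sub_mul, mono_single, qa, qb, ea, eb]
    simp [single_neg']; abel
  simp [hp, hs]

theorem model_far' {i j : Fin (k + 4)} (hadj : i.val = j.val + 1 ∨ j.val = i.val + 1)
    (hb : (i.val ≤ k + 1 ∧ j.val ≤ k + 1) ∨ (k + 2 ≤ i.val ∧ k + 2 ≤ j.val)) :
    ∀ g, Commute ((model k F).μ (em i j g)) ((model k F).e 1) := by
  have hne : i ≠ j := fun e => by have := congrArg Fin.val e; omega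
  intro g
  refine mem_of_gens ((Subgroup.centralizer {(model k F).e 1}).comap ((model k F).μ.comp (em i j))) (fun t => ?_)
    (fun t => ?_) g ((model k F).e 1) rfl |>.symm
  · rw [Subgroup.mem_comap, Subgroup.mem_centralizer_singleton_iff, MonoidHom.comp_apply, em_uu hne]
    exact ((model k F).far i j hadj hb t 1).1.eq
  · rw [Subgroup.mem_comap, Subgroup.mem_centralizer_singleton_iff, MonoidHom.comp_apply, em_ll hne]
    exact ((model k F).far j i hadj.symm (hb.imp And.symm And.symm) t 1).1.eq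

theorem adj_ab (k : ℕ) : ((aI k).val = (bI k).val + 1 ∨ (bI k).val = (aI k).val + 1) ∧
    (((aI k).val ≤ k + 1 ∧ (bI k).val ≤ k + 1) ∨ (k + 2 ≤ (aI k).val ∧ k + 2 ≤ (bI k).val)) := by
  simp [aI, bI]

theorem adj_01 (k : ℕ) : ((oI k).val = (lI k).val + 1 ∨ (lI k).val = (oI k).val + 1) ∧
    (((oI k).val ≤ k + 1 ∧ (lI k).val ≤ k + 1) ∨ (k + 2 ≤ (oI k).val ∧ k + 2 ≤ (lI k).val)) := by
  simp [oI, lI]

/-- The data of the model. -/
def wModel (k : ℕ) (F : Type*) [Field F] : WData k F (GL (Ix k) F) where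
  μ := (model k F).μ
  w := wU k F
  hfix := wU_fix
  hdef := wU_def
  cab := by
    rw [wU_psi, ← em_uu (idx_ne k).2.2.1]
    exact (model_far' (adj_ab k).1 (adj_ab k).2 _).symm
  cabw := by
    rw [wU_psi]
    exact (model_far' (adj_ab k).1 (adj_ab k).2 _).symm
  c01 := by
    rw [wU_psi, ← em_uu (idx_ne' k).1]
    exact (model_far' (adj_01 k).1 (adj_01 k).2 _).symm
  c01w := by
    rw [wU_psi]
    exact (model_far' (adj_01 k).1 (adj_01 k).2 _).symm

theorem wU_z : psi (model k F).μ (wU k F) (blkB (dd (-1))) * (model k F).μ (em (aI k) (bI k) (dd (-1))) = 1 := by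
  have hab := (idx_ne k).2.2.1
  rw [wU_psi]
  refine Units.ext ?_
  show branchHom _ * fromBlocks _ 0 0 _ = 1
  rw [branch_dd, theta_em_dd hab, em_dd hab, em_dd hab, fromBlocks_multiply, ← fromBlocks_one]
  simp only [mul_zero, zero_mul, add_zero, zero_add, Matrix.diagonal_mul_diagonal, inv_neg_one]
  congr 1 <;> rw [← Matrix.diagonal_one] <;> congr 1 <;> funext x <;>
    (have hva : k + 2 ≤ x.val ↔ x = aI k ∨ x = bI k := by simp [aI, bI, Fin.ext_iff]; omega
     by_cases h1 : x = aI k <;> by_cases h2 : x = bI k <;> simp_all [DData.dg])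

/-- The image of the orthogonal commutator group among all matrices. -/
def OmGL (k : ℕ) (F : Type*) [Field F] : Subgroup (GL (Ix k) F) :=
  (Cfsg.Omega F ⇑(Qp (k + 4) F)).map (Iso k F).subtype

theorem range_le_omGL {S : Type*} [Group S] (hS : commutator S = ⊤) (f : S →* GL (Ix k) F)
    (hf : ∀ A, f A ∈ Iso k F) : f.range ≤ OmGL k F := by
  rintro _ ⟨A, rfl⟩
  refine ⟨f.codRestrict (Iso k F) hf A, ?_, rfl⟩
  have h1 : (commutator S).map (f.codRestrict (Iso k F) hf) ≤ commutator (Iso k F) := by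
    rw [commutator_def, commutator_def, Subgroup.map_commutator]
    exact Subgroup.commutator_mono le_top le_top
  exact h1 ⟨A, hS ▸ Subgroup.mem_top A, rfl⟩

theorem gen_eq_omGL (k : ℕ) (F : Type*) [Field F] :
    Subgroup.closure (Set.range (model k F).μ ∪ {wU k F}) = OmGL k F := by
  set S := Subgroup.closure (Set.range (model k F).μ ∪ {wU k F})
  have hμS : ∀ A, (model k F).μ A ∈ S := fun A => Subgroup.subset_closure (Or.inl ⟨A, rfl⟩)
  have hwS : wU k F ∈ S := Subgroup.subset_closure (Or.inr rfl)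
  have hψS : ∀ A, (model k F).ψ A ∈ S := fun A => by
    rw [← wU_psi, psi_apply]; exact mul_mem (mul_mem hwS (hμS _)) (inv_mem hwS)
  refine le_antisymm ?_ ?_
  · rw [Subgroup.closure_le]
    have hμ : ∀ A, (model k F).μ A ∈ OmGL k F := fun A =>
      range_le_omGL (CfsgLib.SLPerfect.commutator_eq_top (by omega)) _ model_mu_iso ⟨A, rfl⟩
    rintro _ (⟨A, rfl⟩ | rfl)
    · exact hμ A
    · rw [SetLike.mem_coe, wU_def]
      refine mul_mem (mul_mem (hμ _) ?_) (inv_mem (hμ _))
      refine range_le_omGL (S := SpecialLinearGroup (Fin 3) F) (CfsgLib.SLPerfect.commutator_eq_top le_rfl)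
        (model k F).ψ model_psi_iso ⟨blkB wt, ?_⟩
      rw [← wU_psi, psi_apply, sub3_blkB]; rfl
  · rintro _ ⟨x, hx, rfl⟩
    have himg : img (model k F) ≤ S := by
      rw [img, DData.gen, MonoidHom.map_closure, Subgroup.closure_le]
      rintro _ ⟨g, (⟨A, rfl⟩ | ⟨t, rfl⟩ | ⟨t, rfl⟩), rfl⟩
      · exact hμS A
      · exact hψS _
      · exact hψS _
    exact himg (omega_le_img (model k F) ⟨x, hx⟩)

end CfsgLib.OmShort
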