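import Cfsg.Agent.Lib.OmShort.Model
import Cfsg.Agent.Lib.SpShort.Rels

/-!
# The short relator list of the orthogonal group
-/

set_option autoImplicit false

namespace CfsgLib.OmShort

open Matrix CfsgLib.CTRec CfsgLib.CTRec.TypeA CfsgLib.CTRec.TypeD
open CfsgLib.SpShort.Inp (eqw eqw_iff cmw cmw_iff)
open CfsgLib.ShortPres (Presents exists_word)
open CfsgLib.Lagrangian (Qp)

/-- The second factor of the two torsion separations. -/
def dw (K : Type) [Field K] [DecidableEq K] : SpecialLinearGroup (Fin 2) K := if (2 : K) = 0 then uu 1 * wt else wt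

theorem sep {G : Type*} [Group G] {e X Y : G} (hXY : Commute X Y) {p r : ℕ} (hpr : p.Coprime r) (hX : X ^ p = 1)
    (hY : Y ^ r = 1) (he : Commute e (X * Y)) : Commute e X ∧ Commute e Y := by
  have key : ∀ {X Y : G}, Commute X Y → ∀ {p r : ℕ}, p.Coprime r → X ^ p = 1 → Y ^ r = 1 → Commute e (X * Y) →
      Commute e X := by
    intro X Y hXY p r hpr hX hY he
    obtain ⟨m, hm⟩ := exists_pow_eq_self_of_coprime (x := X) (n := r)
      (hpr.symm.coprime_dvd_right (orderOf_dvd_of_pow_eq_one hX))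
    have h1 := he.pow_right r
    rw [hXY.mul_pow, hY, mul_one] at h1
    exact hm ▸ h1.pow_right m
  exact ⟨key hXY hpr hX hY he, key hXY.symm hpr.symm hY hX (hXY.eq ▸ he)⟩

theorem torsion (K : Type) [Field K] [Fintype K] [DecidableEq K] :
    ∃ p r : ℕ, p.Coprime r ∧ (uu (1 : K)) ^ p = 1 ∧ (dw K) ^ r = 1 := by
  obtain ⟨p, hp⟩ := CharP.exists K
  haveI := hp
  have hpp : p.Prime := CharP.char_is_prime K p
  have hu : (uu (1 : K)) ^ p = 1 := by rw [uu_pow, CharP.cast_eq_zero, uu_zero]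
  by_cases h2 : (2 : K) = 0
  · refine ⟨p, 3, ?_, hu, by rw [dw, if_pos h2]; exact uu_wt_three h2⟩
    have hd : p ∣ 2 := (CharP.cast_eq_zero_iff K p 2).1 (by exact_mod_cast h2)
    rw [(Nat.prime_dvd_prime_iff_eq hpp Nat.prime_two).1 hd]
    decide
  · refine ⟨p, 4, ?_, hu, by rw [dw, if_neg h2]; exact wt_four⟩
    rw [show (4 : ℕ) = 2 ^ 2 from rfl]
    refine Nat.Coprime.pow_right _ ((Nat.coprime_primes hpp Nat.prime_two).2 fun e => h2 ?_)
    subst e
    exact_mod_cast CharP.cast_eq_zero K 2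

/-- The input. -/
structure Inp (K : Type) [Field K] [Fintype K] (k : ℕ) where
  m : ℕ
  x : Fin m → SpecialLinearGroup (Fin (k + 4)) K
  rels : Finset (FreeGroup (Fin m))
  hP : Presents rels x
  L : List (SpecialLinearGroup (Fin (k + 2)) K × SpecialLinearGroup (Fin 2) K)
  hL : Subgroup.closure {p | p ∈ L} = ⊤

variable {K : Type} [Field K] [Fintype K] [DecidableEq K] {k : ℕ}

namespace Inp

variable (I : Inp K k)

/-- The extra letter. -/
abbrev wW : FreeGroup (Fin I.m ⊕ Fin 1) := FreeGroup.of (Sum.inr 0)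

/-- A word of the special linear group. -/
noncomputable def wS (s : SpecialLinearGroup (Fin (k + 4)) K) : FreeGroup (Fin I.m ⊕ Fin 1) :=
  FreeGroup.map Sum.inl (exists_word I.hP.gen s).choose

/-- A word of a conjugate by the extra letter. -/
noncomputable def wE (s : SpecialLinearGroup (Fin (k + 4)) K) : FreeGroup (Fin I.m ⊕ Fin 1) :=
  I.wW * I.wS s * I.wW⁻¹

/-- All relations. -/
noncomputable def relL : List (FreeGroup (Fin I.m ⊕ Fin 1)) :=
  I.rels.toList.map (FreeGroup.map Sum.inl) ++ I.L.map (fun p => cmw I.wW (I.wS (pe p))) ++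
    [eqw I.wW (I.wS (Qm k K).M * I.wE (Qm k K).M * (I.wS (Qm k K).M)⁻¹),
      cmw (I.wE (sub3 (tv 1 2 1))) (I.wS (em (aI k) (bI k) (uu 1) * em (oI k) (lI k) (dw K))),
      cmw (I.wE (sub3 (tv 1 2 1))) (I.wS (em (aI k) (bI k) (dw K) * em (oI k) (lI k) (uu 1))),
      I.wE (sub3 (blkB (dd (-1)))) * I.wS (em (aI k) (bI k) (dd (-1)))]

theorem length_relL : I.relL.length = I.rels.card + I.L.length + 4 := by
  simp [relL]; omega

theorem eval_wS {G : Type} [Group G] {f : Fin I.m ⊕ Fin 1 → G}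
    {μ : SpecialLinearGroup (Fin (k + 4)) K →* G} (h : ∀ j, f (Sum.inl j) = μ (I.x j))
    (s : SpecialLinearGroup (Fin (k + 4)) K) : FreeGroup.lift f (I.wS s) = μ s := by
  have e : (FreeGroup.lift f).comp (FreeGroup.map Sum.inl) = μ.comp (FreeGroup.lift I.x) := by
    ext j; simp [h]
  rw [wS, ← MonoidHom.comp_apply, e, MonoidHom.comp_apply, (exists_word I.hP.gen s).choose_spec]

theorem eval_wE {G : Type} [Group G] {f : Fin I.m ⊕ Fin 1 → G}
    {μ : SpecialLinearGroup (Fin (k + 4)) K →* G} (h : ∀ j, f (Sum.inl j) = μ (I.x j))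
    (s : SpecialLinearGroup (Fin (k + 4)) K) :
    FreeGroup.lift f (I.wE s) = f (Sum.inr 0) * μ s * (f (Sum.inr 0))⁻¹ := by
  rw [wE, map_mul, map_mul, map_inv, I.eval_wS h, FreeGroup.lift_apply_of]

/-- The images of the generators among all matrices. -/
def f₀ : Fin I.m ⊕ Fin 1 → GL (Ix k) K :=
  Sum.elim (fun j => (model k K).μ (I.x j)) (fun _ => wU k K)

theorem sound : ∀ r ∈ I.relL, FreeGroup.lift I.f₀ r = 1 := by
  have h : ∀ j, I.f₀ (Sum.inl j) = (model k K).μ (I.x j) := fun _ => rfl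
  have hw : I.f₀ (Sum.inr 0) = wU k K := rfl
  have hS := I.eval_wS h
  have hE := I.eval_wE h
  intro r hr
  simp only [relL, List.mem_append, List.mem_map, Finset.mem_toList, List.mem_cons, List.not_mem_nil,
    or_false] at hr
  rcases hr with (⟨s, hs, rfl⟩ | ⟨p, -, rfl⟩) | rfl | rfl | rfl | rfl
  · have e : (FreeGroup.lift I.f₀).comp (FreeGroup.map Sum.inl) = (model k K).μ.comp (FreeGroup.lift I.x) := by
      ext j; simp [f₀]
    rw [← MonoidHom.comp_apply, e, MonoidHom.comp_apply, I.hP.holds s hs, map_one]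
  · rw [cmw_iff, hS, FreeGroup.lift_apply_of, hw]; exact wU_fix p
  · rw [eqw_iff, map_mul, map_mul, map_inv, hS, hE, FreeGroup.lift_apply_of, hw]; exact wU_def
  · rw [cmw_iff, hE, hS, hw, map_mul]
    have he := wU_psi (k := k) (F := K) (tv 1 2 1)
    rw [psi_apply] at he
    rw [he]
    exact ((model_far' (adj_ab k).1 (adj_ab k).2 _).symm).mul_right ((model_far' (adj_01 k).1 (adj_01 k).2 _).symm)
  · rw [cmw_iff, hE, hS, hw, map_mul]
    have he := wU_psi (k := k) (F := K) (tv 1 2 1)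
    rw [psi_apply] at he
    rw [he]
    exact ((model_far' (adj_ab k).1 (adj_ab k).2 _).symm).mul_right ((model_far' (adj_01 k).1 (adj_01 k).2 _).symm)
  · rw [map_mul, hE, hS, hw]; exact wU_z

theorem exists_wData {G : Type} [Group G] (f : Fin I.m ⊕ Fin 1 → G)
    (hrel : ∀ r ∈ I.relL, FreeGroup.lift f r = 1) :
    ∃ W : WData k K G, (∀ j, f (Sum.inl j) = W.μ (I.x j)) ∧ f (Sum.inr 0) = W.w ∧
      psi W.μ W.w (blkB (dd (-1))) * W.μ (em (aI k) (bI k) (dd (-1))) = 1 := by
  haveI : Finite (SpecialLinearGroup (Fin (k + 4)) K) := Subtype.finite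
  simp only [relL, List.forall_mem_append, List.forall_mem_cons, List.forall_mem_map] at hrel
  obtain ⟨⟨hsl, hfix⟩, r1, r2, r3, r4, -⟩ := hrel
  obtain ⟨μ, hμ⟩ := I.hP.exists_hom (fun j => f (Sum.inl j)) fun r hr => by
    have e : FreeGroup.lift (fun j => f (Sum.inl j)) = (FreeGroup.lift f).comp (FreeGroup.map Sum.inl) := by
      ext j; simp
    rw [e]
    exact hsl r (Finset.mem_toList.2 hr)
  have hS := I.eval_wS (f := f) (μ := μ) fun j => (hμ j).symm
  have hE := I.eval_wE (f := f) (μ := μ) fun j => (hμ j).symm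
  rw [eqw_iff, map_mul, map_mul, map_inv, hS, hE, FreeGroup.lift_apply_of] at r1
  rw [cmw_iff, hE, hS, map_mul, ← psi_apply] at r2 r3
  rw [map_mul, hE, hS, ← psi_apply] at r4
  set w := f (Sum.inr 0)
  have hfix' : ∀ p, Commute w (μ (pe p)) := by
    have hle : Subgroup.closure {p | p ∈ I.L} ≤ (Subgroup.centralizer {w}).comap (μ.comp pe) := by
      rw [Subgroup.closure_le]
      intro p hp
      have := hfix p hp
      rw [cmw_iff, hS, FreeGroup.lift_apply_of] at this
      rw [SetLike.mem_coe, Subgroup.mem_comap, Subgroup.mem_centralizer_singleton_iff]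
      exact this.symm.eq
    intro p
    have := hle (I.hL ▸ Subgroup.mem_top p)
    rw [Subgroup.mem_comap, Subgroup.mem_centralizer_singleton_iff] at this
    exact (show μ (pe p) * w = w * μ (pe p) from this).symm
  obtain ⟨p, r, hpr, hup, hdr⟩ := torsion K
  obtain ⟨hol, hoa, hob, hla, hlb, -⟩ := idx_ne' k
  have hab := (idx_ne k).2.2.1
  have hXY : ∀ g g', Commute (μ (em (aI k) (bI k) g)) (μ (em (oI k) (lI k) g')) := fun g g' =>
    (em_commute hab hol hoa.symm hla.symm hob.symm hlb.symm g g').map μ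
  have hpow : ∀ {i j : Fin (k + 4)} {g : SpecialLinearGroup (Fin 2) K} {n : ℕ}, g ^ n = 1 →
      (μ (em i j g)) ^ n = 1 := fun e => by rw [← map_pow, ← map_pow, e, map_one, map_one]
  obtain ⟨a1, a2⟩ := sep (hXY _ _) hpr (hpow hup) (hpow hdr) r2
  obtain ⟨a3, a4⟩ := sep (hXY _ _) hpr.symm (hpow hdr) (hpow hup) r3
  have hwt : ∀ {i j : Fin (k + 4)} {e : G}, Commute e (μ (em i j (uu 1))) → Commute e (μ (em i j (dw K))) →
      Commute e (μ (em i j wt)) := fun {i j e} hu hd => by
    rw [dw] at hd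
    split_ifs at hd
    · rw [show (wt : SpecialLinearGroup (Fin 2) K) = (uu 1)⁻¹ * (uu 1 * wt) by rw [inv_mul_cancel_left], map_mul,
        map_mul, map_inv, map_inv]
      exact hu.inv_right.mul_right hd
    · exact hd
  refine ⟨{ μ := μ, w := w, hfix := hfix', hdef := r1
            cab := ?_, cabw := hwt a1 a3, c01 := ?_, c01w := hwt a4 a2 }, fun j => (hμ j).symm, rfl, r4⟩
  · rw [← em_uu hab]; exact a1
  · rw [← em_uu hol]; exact a4

theorem exists_isom :
    Nonempty (PresentedGroup {r | r ∈ I.relL} ≃* Cfsg.Omega K ⇑(Qp (k + 4) K)) := by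
  set G := PresentedGroup {r | r ∈ I.relL}
  set f : Fin I.m ⊕ Fin 1 → G := fun i => PresentedGroup.of i
  have hl : FreeGroup.lift f = PresentedGroup.mk _ := by ext i; simp [f, PresentedGroup.of]
  obtain ⟨W, hx, hw, hz⟩ := I.exists_wData f fun r hr => by rw [hl]; exact PresentedGroup.one_of_mem hr
  let Φ : G →* GL (Ix k) K := PresentedGroup.toGroup (f := I.f₀) fun r hr => I.sound r hr
  have hΦ : ∀ i, Φ (f i) = I.f₀ i := fun i => PresentedGroup.toGroup.of _
  have hΦw : Φ W.w = wU k K := by rw [← hw, hΦ]; rfl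
  have hΦμ : ∀ A, Φ (W.μ A) = (model k K).μ A := by
    intro A
    obtain ⟨s, rfl⟩ := exists_word I.hP.gen A
    have e : (Φ.comp W.μ).comp (FreeGroup.lift I.x) = (model k K).μ.comp (FreeGroup.lift I.x) := by
      ext j
      simp only [MonoidHom.comp_apply, FreeGroup.lift_apply_of, ← hx, hΦ]
      rfl
    exact DFunLike.congr_fun e s
  have hΦψ : ∀ A, Φ (psi W.μ W.w A) = (model k K).ψ A := fun A => by
    rw [← wU_psi, psi_apply, psi_apply, map_mul, map_mul, map_inv, hΦw, hΦμ]
  have hgen : Subgroup.closure (Set.range W.μ ∪ {W.w}) = ⊤ := by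
    rw [eq_top_iff, ← PresentedGroup.closure_range_of]
    refine Subgroup.closure_mono ?_
    rintro _ ⟨i, rfl⟩
    rcases i with j | j
    · exact Or.inl ⟨_, (hx j).symm⟩
    · obtain rfl : j = 0 := Subsingleton.elim _ _
      exact Or.inr hw
  have hrange : Φ.range = OmGL k K := by
    rw [← gen_eq_omGL, MonoidHom.range_eq_map, ← hgen, MonoidHom.map_closure, Set.image_union, Set.image_singleton,
      hΦw]
    congr 2
    rw [← Set.range_comp]
    exact congrArg Set.range (funext hΦμ)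
  exact ⟨(MonoidHom.ofInjective (injective_of W hgen Φ hΦμ hΦψ hz)).trans ((MulEquiv.subgroupCongr hrange).trans
    ((Cfsg.Omega K ⇑(Qp (k + 4) K)).equivMapOfInjective (Iso k K).subtype
      (Iso k K).subtype_injective).symm)⟩

end Inp

end CfsgLib.OmShort
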